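import Groth.Agent.Sga3.NeutralGen.MulOpen
import Groth.Agent.GeomComp.SectionModel
import Groth.Agent.Calg2.ProConsCriteria
import Groth.Agent.SpectralTopology.FpCancel

/-!
Constructibility of the neutral set: it is the square of its trace on an affine neighbourhood of the
unit section.
-/

set_option autoImplicit false
set_option linter.style.haveILetI false

universe u

open CategoryTheory CategoryTheory.Limits MonoidalCategory CartesianMonoidalCategory MonObj GrpObj
  AlgebraicGeometry TopologicalSpace Topology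

noncomputable section

namespace Groth.Sga3.NeutralGen

open Groth.GrpschAbsch

variable {S : Scheme.{u}} {G : Over S} [GrpObj G]

theorem mem_of_fibre_specialization {w a : G.left} (hw : w ∈ SGA3x.neutralSet G) (he : G.hom.base w = G.hom.base a)
    (h : w ⤳ a) : a ∈ SGA3x.neutralSet G := by
  obtain ⟨cw, hcw⟩ : w ∈ Set.range (G.hom.fiberι (G.hom.base a)).base := (G.hom.range_fiberι _).ge he
  obtain ⟨ca, hca⟩ : a ∈ Set.range (G.hom.fiberι (G.hom.base a)).base := (G.hom.range_fiberι _).ge rfl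
  rw [← hcw, NeutralSet.fiberι_mem_iff] at hw
  rw [← hca, NeutralSet.fiberι_mem_iff]
  exact ((G.hom.fiberι _).isEmbedding.isInducing.specializes_iff.1 (by rw [hcw, hca]; exact h)).mem_closed
    isClosed_connectedComponent hw

theorem mul_mem_neutralSet {q : ↥(G ⊗ G).left} (h₁ : (fst G G).left.base q ∈ SGA3x.neutralSet G)
    (h₂ : (snd G G).left.base q ∈ SGA3x.neutralSet G) :
    (fst G G * snd G G).left.base q ∈ SGA3x.neutralSet G := by
  let y := (snd G G).left.base q
  obtain ⟨z', hz'⟩ := exists_isNGen (Red.bc G.hom G) y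
  let m : G ⊗ G ⟶ G := fst G G * snd G G
  let ε : G ⟶ G ⊗ G := lift 1 (𝟙 G)
  let q₀ := ε.left.base y
  have hq₀f : (fst G G).left.base q₀ ∈ SGA3x.neutralSet G := by
    rw [← Scheme.Hom.comp_apply, ← Over.comp_left, lift_fst, Hom.one_def, Over.comp_left, Scheme.Hom.comp_apply]
    exact unit_mem G _
  have hq₀s : (snd G G).left.base q₀ = y := by
    rw [← Scheme.Hom.comp_apply, ← Over.comp_left, lift_snd]; rfl
  have hm₀ : m.left.base q₀ = y := by
    rw [← Scheme.Hom.comp_apply, ← Over.comp_left,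
      show ε ≫ m = 𝟙 G by simp [ε, m, MonObj.comp_mul]]
    rfl
  have hN : ∀ r : ↥(G ⊗ G).left, (fst G G).left.base r ∈ SGA3x.neutralSet G →
      r ∈ SGA3x.neutralSet (Red.bc G.hom G) := fun r hr => by
    rw [NeutralSet.neutralSet_bc]; exact hr
  have hbase : ∀ r : ↥(G ⊗ G).left, G.hom.base (m.left.base r) = G.hom.base ((snd G G).left.base r) := fun r => by
    rw [← Scheme.Hom.comp_apply, ← Scheme.Hom.comp_apply, Over.w, Over.w]
  have hz's : (snd G G).left.base z' = y := hz'.2.1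
  have hzm : m.left.base z' ∈ SGA3x.neutralSet G := by
    have h := (hz'.2.2 q₀ (hN q₀ hq₀f) hq₀s).map m.left.continuous
    rw [hm₀] at h
    exact mem_of_fibre_generization G h₂ (by rw [hbase, hz's]) h
  exact mem_of_fibre_specialization hzm (by rw [hbase, hbase, hz's]) ((hz'.2.2 q (hN q h₁) rfl).map m.left.continuous)

/-- Every point of the neutral set is a product of two points near the unit. -/
theorem exists_mul_eq {W : Set G.left} (hW : IsOpen W) {x : G.left} (hx : x ∈ SGA3x.neutralSet G)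
    (he : unit G (G.hom.base x) ∈ W) :
    ∃ q : ↥(G ⊗ G).left, (fst G G).left.base q ∈ SGA3x.neutralSet G ∩ W ∧
      (snd G G).left.base q ∈ SGA3x.neutralSet G ∩ W ∧ (fst G G * snd G G).left.base q = x := by
  obtain ⟨z', hz'⟩ := exists_isNGen (Red.bc G.hom G) x
  let ν : G ⊗ G ⟶ G ⊗ G := lift (fst G G) ((fst G G)⁻¹ * snd G G)
  have hf : ν ≫ fst G G = fst G G := lift_fst _ _
  have hs : ν ≫ snd G G = (fst G G)⁻¹ * snd G G := lift_snd _ _
  have hm : ν ≫ (fst G G * snd G G) = snd G G := by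
    rw [MonObj.comp_mul, hf, hs, mul_inv_cancel_left]
  let δ : G ⟶ G ⊗ G := lift (𝟙 G) (𝟙 G)
  have hδf : (fst G G).left.base (δ.left.base x) = x := by
    rw [← Scheme.Hom.comp_apply, ← Over.comp_left, lift_fst]; rfl
  have hδs : (snd G G).left.base (δ.left.base x) = x := by
    rw [← Scheme.Hom.comp_apply, ← Over.comp_left, lift_snd]; rfl
  have hz's : (snd G G).left.base z' = x := hz'.2.1
  have hzδ : z' ⤳ δ.left.base x := hz'.2.2 _ (by rw [NeutralSet.neutralSet_bc, Set.mem_preimage]; show (fst G G).left.base _ ∈ _; rw [hδf]; exact hx) hδs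
  have hzN : (fst G G).left.base z' ∈ SGA3x.neutralSet G := by
    have := hz'.1
    rwa [NeutralSet.neutralSet_bc] at this
  obtain ⟨z, hz⟩ := exists_isNGen G (G.hom.base x)
  have hfz : G.hom.base ((fst G G).left.base z') = G.hom.base x := by
    rw [← Scheme.Hom.comp_apply, Over.w, ← Over.w (snd G G), Scheme.Hom.comp_apply, hz's]
  have hfW : (fst G G).left.base z' ∈ W := by
    have h1 : IsNGen (Red.bc (𝟙 S) G) (G.hom.base x)
        ((pullback.lift (pullback.fst G.hom G.hom) (pullback.snd G.hom G.hom ≫ G.hom)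
          (by rw [Category.comp_id, pullback.condition]) : pullback G.hom G.hom ⟶ pullback G.hom (𝟙 S)).base z') :=
      IsNGen.map (G := G) (𝟙 S) G.hom G.hom (Category.comp_id _) (pullback.lift_fst ..) (pullback.lift_snd ..) hz'
    obtain ⟨w₀, hw₀, hw₀'⟩ := Scheme.Pullback.exists_preimage_pullback (f := G.hom) (g := 𝟙 S) (unit G (G.hom.base x))
      (G.hom.base x) (hom_unit G (G.hom.base x))
    have h2 := (h1.2.2 w₀ (by
      rw [NeutralSet.neutralSet_bc, Set.mem_preimage, hw₀]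
      exact unit_mem G _) hw₀').map (pullback.fst G.hom (𝟙 S)).continuous
    rw [hw₀, ← Scheme.Hom.comp_apply, pullback.lift_fst] at h2
    exact Specializes.mem_open (show (fst G G).left.base z' ⤳ _ from h2) hW he
  have hd : ((fst G G)⁻¹ * snd G G).left.base (δ.left.base x) = unit G (G.hom.base x) := by
    rw [← Scheme.Hom.comp_apply, ← Over.comp_left,
      show δ ≫ ((fst G G)⁻¹ * snd G G) = (1 : G ⟶ G) by simp [δ, MonObj.comp_mul, GrpObj.comp_inv],
      Hom.one_def, Over.comp_left, Scheme.Hom.comp_apply]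
    rfl
  have hψ : ((fst G G)⁻¹ * snd G G).left.base z' ⤳ unit G (G.hom.base x) :=
    hd ▸ hzδ.map ((fst G G)⁻¹ * snd G G).left.continuous
  refine ⟨ν.left.base z', ?_, ?_, ?_⟩
  · rw [← Scheme.Hom.comp_apply, ← Over.comp_left, hf]
    exact ⟨hzN, hfW⟩
  · rw [← Scheme.Hom.comp_apply, ← Over.comp_left, hs]
    refine ⟨mem_of_fibre_generization G (unit_mem G _) ?_ hψ, hψ.mem_open hW he⟩
    rw [hom_unit, ← Scheme.Hom.comp_apply, Over.w, ← Over.w (snd G G), Scheme.Hom.comp_apply, hz's]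
  · rw [← Scheme.Hom.comp_apply, ← Over.comp_left, hm]
    exact hz's

/-- An affine neighbourhood of the unit section over an affine neighbourhood in the base. -/
theorem exists_unit_chart (s : S) : ∃ (S₀ : S.Opens) (W : G.left.Opens), s ∈ S₀ ∧ IsAffineOpen S₀ ∧
    IsAffineOpen W ∧ W ≤ G.hom ⁻¹ᵁ S₀ ∧ S₀ ≤ η[G].left ⁻¹ᵁ W := by
  obtain ⟨T, hT, hsT, -⟩ := exists_isAffineOpen_mem_and_subset (U := ⊤) (Set.mem_univ s)
  obtain ⟨W, hW, heW, hWT⟩ := exists_isAffineOpen_mem_and_subset (U := G.hom ⁻¹ᵁ T) (x := unit G s)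
    (show G.hom.base (unit G s) ∈ T from (hom_unit G s).symm ▸ hsT)
  obtain ⟨r, hrle, hsr⟩ := hT.exists_basicOpen_le (V := η[G].left ⁻¹ᵁ W) ⟨s, heW⟩ hsT
  have e : W ≤ G.hom ⁻¹ᵁ T := fun x hx => hWT hx
  refine ⟨S.basicOpen r, G.left.basicOpen (G.hom.appLE T W e r), hsr, hT.basicOpen r, hW.basicOpen _, ?_, ?_⟩
  · rw [Scheme.basicOpen_appLE]
    exact inf_le_right
  · intro t ht
    show unit G t ∈ G.left.basicOpen _
    rw [Scheme.basicOpen_appLE]
    exact ⟨hrle ht, show G.hom.base (unit G t) ∈ S.basicOpen r from (hom_unit G t).symm ▸ ht⟩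

variable {S₀ : S.Opens} {W : G.left.Opens} (e : W ≤ G.hom ⁻¹ᵁ S₀) (eη : S₀ ≤ η[G].left ⁻¹ᵁ W)

/-- The unit section of a chart. -/
def chartUnit : S₀.toScheme ⟶ W.toScheme := η[G].left.resLE W S₀ eη

theorem chartUnit_comp : chartUnit eη ≫ G.hom.resLE S₀ W e = 𝟙 _ := by
  rw [← cancel_mono S₀.ι, Category.assoc, Scheme.Hom.resLE_comp_ι, Category.id_comp, chartUnit,
    Scheme.Hom.resLE_comp_ι_assoc, Over.w]
  exact Category.comp_id _

theorem sectionComponents_chart :
    MoreMor.sectionComponents (G.hom.resLE S₀ W e) (chartUnit eη) = W.ι.base ⁻¹' SGA3x.neutralSet G := by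
  let f := G.hom.resLE S₀ W e
  let σ := chartUnit eη
  have hf : ∀ w, S₀.ι.base (f.base w) = G.hom.base (W.ι.base w) := fun w => by
    rw [← Scheme.Hom.comp_apply, Scheme.Hom.resLE_comp_ι, Scheme.Hom.comp_apply]
  have hσ : ∀ t, W.ι.base (σ.base t) = unit G (S₀.ι.base t) := fun t => by
    rw [← Scheme.Hom.comp_apply]
    show ((chartUnit eη) ≫ W.ι).base t = _
    rw [chartUnit, Scheme.Hom.resLE_comp_ι, Scheme.Hom.comp_apply]
  have hσf : ∀ t, f.base (σ.base t) = t := fun t => by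
    rw [← Scheme.Hom.comp_apply, chartUnit_comp]; rfl
  ext x
  let F := f.base ⁻¹' {f.base x}
  have hxF : x ∈ F := rfl
  have heF : σ.base (f.base x) ∈ F := hσf _
  show x ∈ connectedComponentIn F (σ.base (f.base x)) ↔ W.ι.base x ∈ SGA3x.neutralSet G
  constructor
  · intro h
    refine Set.mem_iUnion.2 ⟨G.hom.base (W.ι.base x), ?_⟩
    have h1 := (isPreconnected_connectedComponentIn (F := F) (x := σ.base (f.base x))).image W.ι.base
      W.ι.continuous.continuousOn
    refine h1.subset_connectedComponentIn ⟨_, mem_connectedComponentIn heF, ?_⟩ ?_ ⟨x, h, rfl⟩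
    · rw [hσ, hf]
    · rintro _ ⟨w, hw, rfl⟩
      show G.hom.base (W.ι.base w) = G.hom.base (W.ι.base x)
      rw [← hf, ← hf, show f.base w = f.base x from connectedComponentIn_subset F _ hw]
  · intro h
    obtain ⟨z, hz⟩ := exists_isNGen G (G.hom.base (W.ι.base x))
    have hzx : z ⤳ W.ι.base x := hz.2.2 _ h rfl
    have hzW : z ∈ W := hzx.mem_open W.2 x.2
    let zW : W.toScheme := ⟨z, hzW⟩
    have hzF : zW ∈ F := S₀.ι.isOpenEmbedding.injective (by rw [hf, hf]; exact hz.2.1)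
    have hsp : ∀ w (hw : w ∈ F), z ⤳ W.ι.base w → (⟨w, hw⟩ : F) ∈ closure {(⟨zW, hzF⟩ : F)} := fun w hw hsp =>
      specializes_iff_mem_closure.1 ((subtype_specializes_iff _ _).2
        (W.ι.isOpenEmbedding.toIsInducing.specializes_iff.1 hsp))
    rw [connectedComponentIn_eq_image heF]
    refine ⟨⟨x, hxF⟩, ?_, rfl⟩
    refine (isIrreducible_singleton.closure.isConnected.isPreconnected).subset_connectedComponent ?_ (hsp x hxF hzx)
    refine hsp _ heF ?_
    rw [hσ, hf]
    exact hz.specializes_unit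

/-- The scheme `W ×_S W` of a chart, as an object over the base. -/
abbrev chartObj (W : G.left.Opens) : Over S := Over.mk (W.ι ≫ G.hom)

/-- The inclusion of a chart. -/
abbrev chartIncl (W : G.left.Opens) : chartObj W ⟶ G := Over.homMk W.ι rfl

/-- The multiplication on a chart. -/
def chartMul (W : G.left.Opens) : chartObj W ⊗ chartObj W ⟶ G :=
  (fst _ _ ≫ chartIncl W) * (snd _ _ ≫ chartIncl W)

/-- The pairs in a chart with both members in the neutral set. -/
def chartPairs (W : G.left.Opens) : Set ↥(chartObj W ⊗ chartObj W).left :=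
  (fst (chartObj W) (chartObj W)).left.base ⁻¹' (W.ι.base ⁻¹' SGA3x.neutralSet G) ∩
    (snd (chartObj W) (chartObj W)).left.base ⁻¹' (W.ι.base ⁻¹' SGA3x.neutralSet G)

include e eη in
theorem image_chartPairs : (chartMul W).left.base '' chartPairs W = SGA3x.neutralSet G ∩ G.hom.base ⁻¹' S₀ := by
  let Wo := chartObj W
  let jj : Wo ⊗ Wo ⟶ G ⊗ G := lift (fst Wo Wo ≫ chartIncl W) (snd Wo Wo ≫ chartIncl W)
  have hjj : jj ≫ (fst G G * snd G G) = chartMul W := by simp [jj, chartMul, MonObj.comp_mul, Wo]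
  have hjf : ∀ c, (fst G G).left.base (jj.left.base c) = W.ι.base ((fst Wo Wo).left.base c) := fun c => by
    rw [← Scheme.Hom.comp_apply, ← Over.comp_left, lift_fst]; rfl
  have hjs : ∀ c, (snd G G).left.base (jj.left.base c) = W.ι.base ((snd Wo Wo).left.base c) := fun c => by
    rw [← Scheme.Hom.comp_apply, ← Over.comp_left, lift_snd]; rfl
  ext x
  constructor
  · rintro ⟨c, ⟨hc₁, hc₂⟩, rfl⟩
    rw [← hjj, Over.comp_left, Scheme.Hom.comp_apply]
    refine ⟨mul_mem_neutralSet (by rw [hjf]; exact hc₁) (by rw [hjs]; exact hc₂), ?_⟩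
    show G.hom.base _ ∈ S₀
    rw [← Scheme.Hom.comp_apply, Over.w, ← Over.w (snd G G), Scheme.Hom.comp_apply, hjs]
    exact e ((snd Wo Wo).left.base c).2
  · rintro ⟨hx, hxS⟩
    obtain ⟨q, ⟨hq₁, hq₁W⟩, ⟨hq₂, hq₂W⟩, hqx⟩ := exists_mul_eq W.2 hx (eη hxS)
    let O : (G ⊗ G).left.Opens := (fst G G).left ⁻¹ᵁ W ⊓ (snd G G).left ⁻¹ᵁ W
    let Oo : Over S := Over.mk (O.ι ≫ (G ⊗ G).hom)
    let io : Oo ⟶ G ⊗ G := Over.homMk O.ι rfl
    have hlift : ∀ p : G ⊗ G ⟶ G, O ≤ p.left ⁻¹ᵁ W → ∃ l : Oo ⟶ Wo, l ≫ chartIncl W = io ≫ p := fun p hp => by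
      have hr : Set.range (io ≫ p).left.base ⊆ Set.range W.ι.base := by
        rintro _ ⟨o, rfl⟩
        rw [W.range_ι]
        exact hp (o : ↥O.toScheme).2
      refine ⟨Over.homMk (IsOpenImmersion.lift W.ι (io ≫ p).left hr) ?_,
        Over.OverMorphism.ext (IsOpenImmersion.lift_fac _ _ _)⟩
      show _ ≫ W.ι ≫ G.hom = _
      rw [IsOpenImmersion.lift_fac_assoc, Over.w (io ≫ p)]
    obtain ⟨l₁, hl₁⟩ := hlift (fst G G) inf_le_left
    obtain ⟨l₂, hl₂⟩ := hlift (snd G G) inf_le_right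
    let qo : ↥O.toScheme := ⟨q, hq₁W, hq₂W⟩
    have hl : lift l₁ l₂ ≫ jj = io := by
      apply CartesianMonoidalCategory.hom_ext <;> simp [jj, hl₁, hl₂, Wo]
    have hq : jj.left.base ((lift l₁ l₂).left.base qo) = q := by
      rw [← Scheme.Hom.comp_apply, ← Over.comp_left, hl]
      rfl
    refine ⟨(lift l₁ l₂).left.base qo, ⟨?_, ?_⟩, ?_⟩
    · show W.ι.base ((fst Wo Wo).left.base _) ∈ SGA3x.neutralSet G
      rw [← hjf, hq]; exact hq₁
    · show W.ι.base ((snd Wo Wo).left.base _) ∈ SGA3x.neutralSet G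
      rw [← hjs, hq]; exact hq₂
    · rw [← hjj, Over.comp_left, Scheme.Hom.comp_apply, hq, hqx]

variable [LocallyOfFinitePresentation G.hom]

include e eη in
theorem isLocallyConstructible_chartPairs (hS₀ : IsAffineOpen S₀) (hW : IsAffineOpen W) :
    IsLocallyConstructible (chartPairs W) := by
  haveI : IsAffine S₀.toScheme := hS₀
  haveI : IsAffine W.toScheme := hW
  have h1 : IsLocallyConstructible (W.ι.base ⁻¹' SGA3x.neutralSet G) := by
    rw [← sectionComponents_chart e eη]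
    exact Groth.GeomComp.isLocallyConstructible_sectionComponents _ _ (chartUnit_comp e eη)
  exact (Groth.SpectralTopology.isLocallyConstructible_preimage _ h1).inter
    (Groth.SpectralTopology.isLocallyConstructible_preimage _ h1)

include e in
theorem isAffine_chartObj_tensor (hS₀ : IsAffineOpen S₀) (hW : IsAffineOpen W) :
    IsAffine (chartObj W ⊗ chartObj W).left := by
  haveI : IsAffine S₀.toScheme := hS₀
  haveI : IsAffine W.toScheme := hW
  let f := G.hom.resLE S₀ W e
  have hf : f ≫ S₀.ι = W.ι ≫ G.hom := Scheme.Hom.resLE_comp_ι _ _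
  have sq := IsPullback.of_hasPullback f f
  have sq' : IsPullback (pullback.fst f f) (pullback.snd f f) (W.ι ≫ G.hom) (W.ι ≫ G.hom) := by
    rw [← hf]
    exact ⟨⟨by rw [reassoc_of% sq.w]⟩,
      ⟨PullbackCone.isLimitOfCompMono f f S₀.ι (limit.cone (cospan f f)) (limit.isLimit _)⟩⟩
  exact IsAffine.of_isIso sq'.isoPullback.inv

theorem lfp_chartMul (W : G.left.Opens) : LocallyOfFinitePresentation (chartMul W).left := by
  haveI : LocallyOfFinitePresentation (chartObj W).hom :=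
    inferInstanceAs (LocallyOfFinitePresentation (W.ι ≫ G.hom))
  haveI h : LocallyOfFinitePresentation (chartObj W ⊗ chartObj W).hom := by
    rw [← Over.w (snd (chartObj W) (chartObj W))]
    haveI : LocallyOfFinitePresentation (snd (chartObj W) (chartObj W)).left :=
      inferInstanceAs (LocallyOfFinitePresentation (pullback.snd (chartObj W).hom (chartObj W).hom))
    exact MorphismProperty.comp_mem @LocallyOfFinitePresentation (snd (chartObj W) (chartObj W)).left
      (chartObj W).hom inferInstance inferInstance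
  rw [← Over.w (chartMul W)] at h
  exact Groth.SpectralTopology.lfp_of_comp (chartMul W).left G.hom

theorem isIndConstructible_neutralSet : ProCons.IsIndConstructible (SGA3x.neutralSet G) := by
  intro x
  obtain ⟨S₀, W, hxS, hS₀, hW, e, eη⟩ := exists_unit_chart (G := G) (G.hom.base x)
  haveI := isAffine_chartObj_tensor e hS₀ hW
  haveI := lfp_chartMul (G := G) W
  have hind : ProCons.IsIndConstructible (chartPairs W) :=
    Groth.Calg2.ProCons.isIndConstructible_of fun V hV y hy =>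
      haveI : IsAffine V.toScheme := hV
      ⟨V.ι.base ⁻¹' chartPairs W,
        ((isLocallyConstructible_chartPairs e eη hS₀ hW).preimage_of_isOpenEmbedding
          V.ι.isOpenEmbedding).isConstructible, hy, subset_rfl⟩
  have h := Groth.Calg2.ProCons.isIndConstructible_image (chartMul W).left hind
  rw [image_chartPairs e eη] at h
  obtain ⟨U, hU, hxU, T, hT, hUT⟩ := h x
  refine ⟨U ∩ G.hom.base ⁻¹' S₀, hU.inter (S₀.2.preimage G.hom.continuous), ⟨hxU, hxS⟩,
    (fun A => (Set.inclusion Set.inter_subset_left : ↥(U ∩ G.hom.base ⁻¹' S₀) → U) ⁻¹' A) '' T, ?_, ?_⟩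
  · rintro _ ⟨A, hA, rfl⟩
    exact (hT A hA).preimage_of_isOpenEmbedding
      (IsOpenEmbedding.of_comp _ hU.isOpenEmbedding_subtypeVal
        (hU.inter (S₀.2.preimage G.hom.continuous)).isOpenEmbedding_subtypeVal)
  · ext w
    constructor
    · intro hw
      obtain ⟨A, hA, hwA⟩ : (⟨w.1, w.2.1⟩ : U) ∈ ⋃₀ T := hUT ▸ (⟨hw, w.2.2⟩ : w.1 ∈ SGA3x.neutralSet G ∩ _)
      exact ⟨_, ⟨A, hA, rfl⟩, hwA⟩
    · rintro ⟨_, ⟨A, hA, rfl⟩, hwA⟩
      have : (⟨w.1, w.2.1⟩ : U) ∈ (Subtype.val ⁻¹' (SGA3x.neutralSet G ∩ G.hom.base ⁻¹' S₀) : Set U) :=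
        hUT ▸ ⟨A, hA, hwA⟩
      exact this.1

theorem isLocallyConstructible_neutralSet [QuasiSeparated G.hom] :
    IsLocallyConstructible (SGA3x.neutralSet G) := by
  choose S₀' W' hxS' hS₀' hW' e' eη' using fun s : S => exists_unit_chart (G := G) s
  refine IsLocallyConstructible.of_isOpenCover (U := fun s : S => G.hom ⁻¹ᵁ S₀' s) ?_ fun s => ?_
  · exact IsOpenCover.mk (Opens.ext (Set.eq_univ_of_forall fun x => Opens.mem_iSup.2 ⟨G.hom.base x, hxS' _⟩))
  obtain ⟨S₀, W, hS₀, hW, e, eη, hSeq⟩ : ∃ (S₀ : S.Opens) (W : G.left.Opens) (_ : IsAffineOpen S₀)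
      (_ : IsAffineOpen W) (e : W ≤ G.hom ⁻¹ᵁ S₀) (eη : S₀ ≤ η[G].left ⁻¹ᵁ W), S₀' s = S₀ :=
    ⟨_, _, hS₀' s, hW' s, e' s, eη' s, rfl⟩
  rw [hSeq]
  haveI := isAffine_chartObj_tensor e hS₀ hW
  haveI := lfp_chartMul (G := G) W
  haveI : IsAffine S₀.toScheme := hS₀
  let G₁ := G.hom ⁻¹ᵁ S₀
  haveI : QuasiSeparatedSpace ↥G₁.toScheme := quasiSeparatedSpace_of_quasiSeparated (G.hom ∣_ S₀)
  have hr : Set.range (chartMul W).left.base ⊆ Set.range G₁.ι.base := by
    rintro _ ⟨c, rfl⟩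
    rw [G₁.range_ι]
    show G.hom.base _ ∈ S₀
    rw [← Scheme.Hom.comp_apply, Over.w, ← Over.w (snd (chartObj W) (chartObj W)), Scheme.Hom.comp_apply]
    exact e ((snd (chartObj W) (chartObj W)).left.base c).2
  let m₁ := IsOpenImmersion.lift G₁.ι (chartMul W).left hr
  have hm₁ : m₁ ≫ G₁.ι = (chartMul W).left := IsOpenImmersion.lift_fac _ _ _
  haveI : LocallyOfFinitePresentation m₁ := by
    haveI : LocallyOfFinitePresentation (m₁ ≫ G₁.ι) := hm₁ ▸ inferInstance
    exact Groth.SpectralTopology.lfp_of_comp m₁ G₁.ι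
  have h := m₁.isLocallyConstructible_image (isLocallyConstructible_chartPairs e eη hS₀ hW)
  suffices heq : (G₁.ι.base ⁻¹' SGA3x.neutralSet G : Set G₁.toScheme) = m₁.base '' chartPairs W by
    rw [← heq] at h
    exact h
  refine Set.ext fun w => ?_
  have h2 := Set.ext_iff.1 (image_chartPairs (G := G) e eη) w.1
  constructor
  · intro hw
    obtain ⟨c, hc, hcw⟩ := h2.2 ⟨hw, w.2⟩
    exact ⟨c, hc, G₁.ι.isOpenEmbedding.injective (by rw [← Scheme.Hom.comp_apply, hm₁]; exact hcw)⟩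
  · rintro ⟨c, hc, rfl⟩
    refine (h2.1 ⟨c, hc, ?_⟩).1
    rw [← hm₁, Scheme.Hom.comp_apply]
    rfl

theorem exists_isCompact_neutralSet [CompactSpace S] :
    ∃ K : Set G.left, IsCompact K ∧ SGA3x.neutralSet G ⊆ K := by
  choose S₀ W hs hS₀ hW e eη using fun s : S => exists_unit_chart (G := G) s
  obtain ⟨t, ht⟩ := isCompact_univ.elim_finite_subcover (fun s => (S₀ s : Set S)) (fun s => (S₀ s).2)
    fun s _ => Set.mem_iUnion.2 ⟨s, hs s⟩
  refine ⟨⋃ s ∈ t, Set.range (chartMul (G := G) (W s)).left.base, t.finite_toSet.isCompact_biUnion fun s _ => ?_, ?_⟩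
  · haveI := isAffine_chartObj_tensor (e s) (hS₀ s) (hW s)
    exact isCompact_range (chartMul (G := G) (W s)).left.continuous
  · intro x hx
    obtain ⟨s, hst, hxs⟩ := Set.mem_iUnion₂.1 (ht (Set.mem_univ (G.hom.base x)))
    obtain ⟨c, -, hc⟩ := (image_chartPairs (G := G) (e s) (eη s)).ge ⟨hx, hxs⟩
    exact Set.mem_iUnion₂.2 ⟨s, hst, c, hc⟩

theorem isConstructible_neutralSet [QuasiSeparated G.hom] [CompactSpace S] [QuasiSeparatedSpace S] :
    IsConstructible (SGA3x.neutralSet G) := by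
  obtain ⟨K, hK, hsub⟩ := exists_isCompact_neutralSet (G := G)
  haveI : QuasiSeparatedSpace G.left := quasiSeparatedSpace_of_quasiSeparated G.hom
  exact (isLocallyConstructible_neutralSet (G := G)).isConstructible_of_subset_of_isCompact hsub hK

end Groth.Sga3.NeutralGen
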