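import Groth.Agent.Sga3.NeutralGen.Cons
import Groth.Agent.AlgSp2.SmoothDescent
import Groth.Agent.AlgSpBoot.SmoothCover
import Groth.Agent.S15351

/-!
The neutral set of a group which is smooth along the unit section is open and smooth.
-/

set_option autoImplicit false
set_option linter.style.haveILetI false

universe u

open CategoryTheory CategoryTheory.Limits MonoidalCategory CartesianMonoidalCategory MonObj GrpObj
  AlgebraicGeometry TopologicalSpace Topology

noncomputable section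

namespace Groth.Sga3.NeutralGen

open Groth.GrpschAbsch Groth.Limits

variable {S : Scheme.{u}} {G : Over S} [GrpObj G]

theorem exists_unit_chart_in {U : G.left.Opens} (hU : ∀ t : S, unit G t ∈ U) {K : S.Opens} {s : S} (hs : s ∈ K) :
    ∃ (S₀ : S.Opens) (W : G.left.Opens), s ∈ S₀ ∧ S₀ ≤ K ∧ IsAffineOpen S₀ ∧ IsAffineOpen W ∧ W ≤ U ∧
      W ≤ G.hom ⁻¹ᵁ S₀ ∧ S₀ ≤ η[G].left ⁻¹ᵁ W := by
  obtain ⟨T, hT, hsT, hTK⟩ := exists_isAffineOpen_mem_and_subset (U := K) (x := s) hs
  obtain ⟨W, hW, heW, hWT⟩ := exists_isAffineOpen_mem_and_subset (U := G.hom ⁻¹ᵁ T ⊓ U) (x := unit G s)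
    ⟨show G.hom.base (unit G s) ∈ T from (hom_unit G s).symm ▸ hsT, hU s⟩
  obtain ⟨r, hrle, hsr⟩ := hT.exists_basicOpen_le (V := η[G].left ⁻¹ᵁ W) ⟨s, heW⟩ hsT
  have e : W ≤ G.hom ⁻¹ᵁ T := fun x hx => (hWT hx).1
  refine ⟨S.basicOpen r, G.left.basicOpen (G.hom.appLE T W e r), hsr, (S.basicOpen_le r).trans hTK,
    hT.basicOpen r, hW.basicOpen _, fun x hx => (hWT (G.left.basicOpen_le _ hx)).2, ?_, ?_⟩
  · rw [Scheme.basicOpen_appLE]
    exact inf_le_right
  · intro t ht
    show unit G t ∈ G.left.basicOpen _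
    rw [Scheme.basicOpen_appLE]
    exact ⟨hrle ht, show G.hom.base (unit G t) ∈ S.basicOpen r from (hom_unit G t).symm ▸ ht⟩

theorem smooth_chartObj {U W : G.left.Opens} (hUs : Smooth (U.ι ≫ G.hom)) (hWU : W ≤ U) :
    Smooth (chartObj W).hom := by
  haveI := hUs
  show Smooth (W.ι ≫ G.hom)
  rw [← Scheme.homOfLE_ι _ hWU, Category.assoc]
  infer_instance

theorem smooth_chartMul (W : G.left.Opens) [Smooth (chartObj W).hom] : Smooth (chartMul W).left := by
  let Wo := chartObj W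
  let j : Wo ⊗ Wo ⟶ Wo ⊗ G := Wo ◁ chartIncl W
  let p : Wo ⊗ G ⟶ G := fst Wo G ≫ chartIncl W
  let sh : Wo ⊗ G ⟶ Wo ⊗ G := lift (fst Wo G) (p * snd Wo G)
  let sh' : Wo ⊗ G ⟶ Wo ⊗ G := lift (fst Wo G) (p⁻¹ * snd Wo G)
  haveI : IsIso sh := ⟨sh', by
      apply CartesianMonoidalCategory.hom_ext
      · simp [sh, sh']
      · simp [sh, sh', p, MonObj.comp_mul, GrpObj.comp_inv],
    by
      apply CartesianMonoidalCategory.hom_ext
      · simp [sh, sh']
      · simp [sh, sh', p, MonObj.comp_mul]⟩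
  have hfac : chartMul W = j ≫ sh ≫ snd Wo G := by
    simp [chartMul, j, sh, p, Wo, MonObj.comp_mul]
  haveI : IsOpenImmersion j.left :=
    MorphismProperty.of_isPullback
      ((Groth.Agf.isPullback_whiskerLeft_snd Wo (chartIncl W)).map (Over.forget S)).flip
      (inferInstanceAs (IsOpenImmersion W.ι))
  haveI : Smooth (snd Wo G).left :=
    inferInstanceAs (Smooth (pullback.snd (chartObj W).hom G.hom))
  haveI : IsIso sh.left := inferInstanceAs (IsIso ((Over.forget S).map sh))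
  rw [hfac, Over.comp_left, Over.comp_left]
  infer_instance

variable {S₀ : S.Opens} {W : G.left.Opens}

theorem isAffine_chartTensor (e : W ≤ G.hom ⁻¹ᵁ S₀) (hS₀ : IsAffineOpen S₀) (hW : IsAffineOpen W) :
    IsAffine (chartObj W ⊗ chartObj W).left := by
  haveI : IsAffine S₀.toScheme := hS₀
  haveI : IsAffine W.toScheme := hW
  let f := G.hom.resLE S₀ W e
  have hf : f ≫ S₀.ι = W.ι ≫ G.hom := Scheme.Hom.resLE_comp_ι _ _
  have sq := IsPullback.of_hasPullback f f
  have sq' : IsPullback (pullback.fst f f) (pullback.snd f f) (W.ι ≫ G.hom) (W.ι ≫ G.hom) := by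
    rw [← hf]
    exact ⟨⟨by rw [reassoc_of% sq.w]⟩,
      ⟨PullbackCone.isLimitOfCompMono f f S₀.ι (limit.cone (cospan f f)) (limit.isLimit _)⟩⟩
  exact IsAffine.of_isIso sq'.isoPullback.inv

theorem isOpen_and_isCompact_chartPairs [Smooth (chartObj W).hom] (e : W ≤ G.hom ⁻¹ᵁ S₀)
    (eη : S₀ ≤ η[G].left ⁻¹ᵁ W) (hS₀ : IsAffineOpen S₀) (hW : IsAffineOpen W) :
    IsOpen (chartPairs W) ∧ IsCompact (chartPairs W) := by
  haveI : IsAffine S₀.toScheme := hS₀
  haveI : IsAffine W.toScheme := hW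
  haveI : Smooth (G.hom.resLE S₀ W e) := by
    haveI : Smooth (G.hom.resLE S₀ W e ≫ S₀.ι) := by
      rw [Scheme.Hom.resLE_comp_ι]
      exact inferInstanceAs (Smooth (chartObj W).hom)
    exact Groth.AlgSpBoot.smooth_of_comp_etale _ S₀.ι
  haveI := isAffine_chartTensor e hS₀ hW
  have ho : IsOpen (W.ι.base ⁻¹' SGA3x.neutralSet G) := by
    rw [← sectionComponents_chart e eη]
    exact Groth.Agent.S15351.result _ _ (chartUnit_comp e eη)
  have hc : IsLocallyConstructible (W.ι.base ⁻¹' SGA3x.neutralSet G) := by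
    rw [← sectionComponents_chart e eη]
    exact Groth.GeomComp.isLocallyConstructible_sectionComponents _ _ (chartUnit_comp e eη)
  refine ⟨(ho.preimage (fst (chartObj W) (chartObj W)).left.continuous).inter
    (ho.preimage (snd (chartObj W) (chartObj W)).left.continuous), ?_⟩
  exact ((pc_of_isLocallyConstructible
    ((Groth.SpectralTopology.isLocallyConstructible_preimage _ hc).inter
      (Groth.SpectralTopology.isLocallyConstructible_preimage _ hc))).qcImage).isCompact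

theorem isOpen_neutralSet_of_smooth {U : G.left.Opens} (hUs : Smooth (U.ι ≫ G.hom))
    (hU : ∀ t : S, unit G t ∈ U) : IsOpen (SGA3x.neutralSet G) := by
  refine isOpen_iff_mem_nhds.2 fun x hx => ?_
  obtain ⟨S₀, W, hxS, -, hS₀, hW, hWU, e, eη⟩ := exists_unit_chart_in hU (K := ⊤) (s := G.hom.base x) trivial
  haveI := smooth_chartObj hUs hWU
  haveI := smooth_chartMul (G := G) W
  have h := (chartMul (G := G) W).left.isOpenMap _ (isOpen_and_isCompact_chartPairs e eη hS₀ hW).1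
  rw [image_chartPairs e eη] at h
  exact Filter.mem_of_superset (h.mem_nhds ⟨hx, hxS⟩) Set.inter_subset_left

theorem exists_openSubgroup_of_smooth {U : G.left.Opens} (hUs : Smooth (U.ι ≫ G.hom))
    (hU : ∀ t : S, unit G t ∈ U) :
    ∃ (G0 : Over S) (_ : GrpObj G0) (i : G0 ⟶ G), IsMonHom i ∧ IsOpenImmersion i.left ∧
      Set.range i.left.base = SGA3x.neutralSet G ∧ Smooth G0.hom ∧ QuasiCompact G0.hom := by
  let O : G.left.Opens := ⟨SGA3x.neutralSet G, isOpen_neutralSet_of_smooth hUs hU⟩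
  let Z : Over S := Over.mk (O.ι ≫ G.hom)
  let i : Z ⟶ G := Over.homMk O.ι rfl
  haveI : Mono i.left := inferInstanceAs (Mono O.ι)
  haveI : Mono i := Over.mono_of_mono_left i
  have hfac : ∀ {T : Over S} (g : T ⟶ G), Set.range g.left.base ⊆ SGA3x.neutralSet G → ∃ z : T ⟶ Z, z ≫ i = g :=
    fun {T} g hg => ⟨Over.homMk (IsOpenImmersion.lift O.ι g.left (hg.trans O.range_ι.ge)) (by
        show IsOpenImmersion.lift _ _ _ ≫ O.ι ≫ G.hom = _
        rw [IsOpenImmersion.lift_fac_assoc, Over.w g]),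
      Over.OverMorphism.ext (IsOpenImmersion.lift_fac _ _ _)⟩
  have hiN : ∀ p, i.left.base p ∈ SGA3x.neutralSet G := fun p => O.range_ι.le ⟨p, rfl⟩
  obtain ⟨grp, hmon⟩ := NeutralSet.exists_grpObj_of_mono G i
    (hfac _ (by rintro _ ⟨p, rfl⟩; exact unit_mem G p))
    (hfac _ (by
      rintro _ ⟨p, rfl⟩
      have h : (fst Z Z ≫ i) * (snd Z Z ≫ i) = lift (fst Z Z ≫ i) (snd Z Z ≫ i) ≫ (fst G G * snd G G) := by
        simp [MonObj.comp_mul]
      rw [h, Over.comp_left, Scheme.Hom.comp_apply]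
      refine mul_mem_neutralSet ?_ ?_
      · rw [← Scheme.Hom.comp_apply, ← Over.comp_left, lift_fst]; exact hiN _
      · rw [← Scheme.Hom.comp_apply, ← Over.comp_left, lift_snd]; exact hiN _))
    (hfac _ (by
      rintro _ ⟨p, rfl⟩
      rw [Hom.inv_def, Over.comp_left, Scheme.Hom.comp_apply]
      exact inv_mem_neutralSet (hiN p)))
  refine ⟨Z, grp, i, hmon, inferInstanceAs (IsOpenImmersion O.ι), O.range_ι, ?_, ?_⟩
  · choose S₀ W hs hK hS₀ hW hWU e eη using fun s : S => exists_unit_chart_in hU (K := ⊤) (s := s) trivial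
    refine (IsZariskiLocalAtSource.iff_of_iSup_eq_top (P := @Smooth)
      (fun s : S => O.ι ⁻¹ᵁ (G.hom ⁻¹ᵁ S₀ s)) (Opens.ext (Set.eq_univ_of_forall fun q =>
        Opens.mem_iSup.2 ⟨G.hom.base (O.ι.base q), hs _⟩))).2 fun s => ?_
    let V := O.ι ⁻¹ᵁ (G.hom ⁻¹ᵁ S₀ s)
    let Wo := chartObj (W s)
    haveI : Smooth Wo.hom := smooth_chartObj hUs (hWU s)
    haveI := smooth_chartMul (G := G) (W s)
    let P : (Wo ⊗ Wo).left.Opens := ⟨chartPairs (W s), (isOpen_and_isCompact_chartPairs (e s) (eη s) (hS₀ s) (hW s)).1⟩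
    let m : P.toScheme ⟶ G.left := P.ι ≫ (chartMul (G := G) (W s)).left
    haveI : Smooth m := inferInstanceAs (Smooth (P.ι ≫ _))
    let jV : V.toScheme ⟶ G.left := V.ι ≫ O.ι
    have hrV : Set.range jV.base = SGA3x.neutralSet G ∩ G.hom.base ⁻¹' (S₀ s) := by
      ext y
      constructor
      · rintro ⟨q, rfl⟩
        exact ⟨O.range_ι.le ⟨_, rfl⟩, (q : ↥V.toScheme).2⟩
      · rintro ⟨hy, hyS⟩
        exact ⟨⟨⟨y, hy⟩, hyS⟩, rfl⟩
    have hrm : Set.range m.base = Set.range jV.base := by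
      rw [hrV, ← image_chartPairs (e s) (eη s), Scheme.Hom.comp_base, TopCat.coe_comp, Set.range_comp, P.range_ι]
      rfl
    let χ := IsOpenImmersion.lift jV m hrm.le
    have hχ : χ ≫ jV = m := IsOpenImmersion.lift_fac _ _ _
    haveI : Smooth (χ ≫ jV) := hχ ▸ inferInstance
    haveI : Smooth χ := Groth.AlgSpBoot.smooth_of_comp_etale χ jV
    haveI : Surjective χ := ⟨fun q => by
      obtain ⟨c, hc⟩ := hrm.ge ⟨q, rfl⟩
      exact ⟨c, jV.isOpenEmbedding.injective (by rw [← Scheme.Hom.comp_apply, hχ]; exact hc)⟩⟩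
    haveI : Smooth (χ ≫ V.ι ≫ Z.hom) := by
      have : χ ≫ V.ι ≫ Z.hom = P.ι ≫ (snd Wo Wo).left ≫ Wo.hom := by
        show χ ≫ V.ι ≫ O.ι ≫ G.hom = _
        rw [← Category.assoc V.ι, reassoc_of% hχ]
        simp only [m, Category.assoc, Over.w]
        rfl
      rw [this]
      haveI : Smooth (snd Wo Wo).left := inferInstanceAs (Smooth (pullback.snd Wo.hom Wo.hom))
      infer_instance
    exact Groth.AlgSp2.smooth_of_comp_surjective_smooth χ (V.ι ≫ Z.hom)
  · refine quasiCompact_iff_forall_isAffineOpen.2 fun K hK => ?_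
    choose S₀ W hs hSK hS₀ hW hWU e eη using fun s : K => exists_unit_chart_in hU (K := K) s.2
    obtain ⟨t, ht⟩ := hK.isCompact.elim_finite_subcover (fun s : K => (S₀ s : Set S)) (fun s => (S₀ s).2)
      fun s hsK => Set.mem_iUnion.2 ⟨⟨s, hsK⟩, hs ⟨s, hsK⟩⟩
    haveI : IsOpenImmersion i.left := inferInstanceAs (IsOpenImmersion O.ι)
    rw [i.left.isEmbedding.isInducing.isCompact_iff]
    have : i.left.base '' (Z.hom ⁻¹ᵁ K : Set Z.left) =
        ⋃ s ∈ t, (chartMul (G := G) (W s)).left.base '' chartPairs (W s) := by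
      ext y
      simp only [Set.mem_iUnion]
      constructor
      · rintro ⟨q, hq, rfl⟩
        have hqK : G.hom.base (i.left.base q) ∈ K := by rw [← Scheme.Hom.comp_apply, Over.w]; exact hq
        obtain ⟨s, hst, hxs⟩ := Set.mem_iUnion₂.1 (ht hqK)
        exact ⟨s, hst, (image_chartPairs (e s) (eη s)).ge ⟨hiN q, hxs⟩⟩
      · rintro ⟨s, -, h⟩
        obtain ⟨h1, h2⟩ := (image_chartPairs (e s) (eη s)).le h
        exact ⟨⟨y, h1⟩, show G.hom.base y ∈ K from hSK s h2, rfl⟩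
    rw [this]
    refine t.finite_toSet.isCompact_biUnion fun s _ => ?_
    haveI : Smooth (chartObj (W s)).hom := smooth_chartObj hUs (hWU s)
    exact (isOpen_and_isCompact_chartPairs (e s) (eη s) (hS₀ s) (hW s)).2.image
      (chartMul (G := G) (W s)).left.continuous

end Groth.Sga3.NeutralGen
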