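import Groth.Agent.Sga3.NeutralGen.Smooth
import Groth.Agent.S4955
import Groth.Agent.GeomComp.SectionLocal
import Groth.Agent.PropsBasic.LociBaseChange.Scheme
import Groth.Agent.FibreDim.Retrocompact

/-!
Over a reduced base, a group with smooth fibres of constant dimension is smooth along the unit section.
-/

set_option autoImplicit false
set_option linter.style.haveILetI false

universe u

open CategoryTheory CategoryTheory.Limits MonoidalCategory CartesianMonoidalCategory MonObj GrpObj
  AlgebraicGeometry TopologicalSpace Topology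

noncomputable section

namespace Groth.Sga3.NeutralGen

open Groth.GrpschAbsch Groth.FibreDim

variable {S : Scheme.{u}} {G : Over S} [GrpObj G] [LocallyOfFinitePresentation G.hom]
  {S₀ : S.Opens} {W : G.left.Opens} (e : W ≤ G.hom ⁻¹ᵁ S₀) (eη : S₀ ≤ η[G].left ⁻¹ᵁ W)

theorem mem_component_chart_iff (t : S₀.toScheme) (x : W.toScheme) :
    x ∈ connectedComponentIn ((G.hom.resLE S₀ W e).base ⁻¹' {t}) ((chartUnit eη).base t) ↔
      (G.hom.resLE S₀ W e).base x = t ∧ W.ι.base x ∈ SGA3x.neutralSet G := by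
  constructor
  · intro h
    have hx := connectedComponentIn_subset _ _ h
    refine ⟨hx, ?_⟩
    have h1 : x ∈ MoreMor.sectionComponents (G.hom.resLE S₀ W e) (chartUnit eη) := by
      show x ∈ connectedComponentIn _ _
      rw [show (G.hom.resLE S₀ W e).base x = t from hx]
      exact h
    rwa [sectionComponents_chart e eη] at h1
  · rintro ⟨hx, hN⟩
    have h1 : x ∈ MoreMor.sectionComponents (G.hom.resLE S₀ W e) (chartUnit eη) := by
      rw [sectionComponents_chart e eη]; exact hN
    change x ∈ connectedComponentIn _ _ at h1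
    rwa [hx] at h1

theorem isIrreducible_component_bc (t : S₀.toScheme) (K : Type u) [Field K]
    [Algebra (IsLocalRing.ResidueField (S₀.toScheme.presheaf.stalk t)) K] :
    IsIrreducible ((FBase.bcπ ((G.hom.resLE S₀ W e).fiberToSpecResidueField t) K ≫
      (G.hom.resLE S₀ W e).fiberι t).base ⁻¹'
        connectedComponentIn ((G.hom.resLE S₀ W e).base ⁻¹' {t}) ((chartUnit eη).base t)) := by
  let f := G.hom.resLE S₀ W e
  let a : Spec (CommRingCat.of K) ⟶ Spec (S₀.toScheme.residueField t) :=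
    Spec.map (CommRingCat.ofHom (algebraMap (IsLocalRing.ResidueField (S₀.toScheme.presheaf.stalk t)) K))
  let p := FBase.bcπ (f.fiberToSpecResidueField t) K
  have H : IsPullback p (pullback.snd (f.fiberToSpecResidueField t) a) (f.fiberToSpecResidueField t) a :=
    IsPullback.of_hasPullback (f.fiberToSpecResidueField t) a
  obtain ⟨ρ, hρ, hρ₁, hρ₂⟩ := Groth.GeomComp.exists_openImmersion_pullback (Scheme.Hom.resLE_comp_ι G.hom e)
    (H.paste_horiz (IsPullback.of_hasPullback f (S₀.toScheme.fromSpecResidueField t)))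
  let tK : Spec (CommRingCat.of K) ⟶ S := (a ≫ S₀.toScheme.fromSpecResidueField t) ≫ S₀.ι
  have hfib : ∀ q, f.base ((f.fiberι t).base (p.base q)) = t := fun q => apply_fiberι f t _
  have hρq : ∀ q, (pullback.fst G.hom tK).base (ρ.base q) = W.ι.base ((f.fiberι t).base (p.base q)) := fun q => by
    have := congrArg (fun m => m.base q) hρ₁
    exact this
  have hN : ∀ q, (p ≫ f.fiberι t).base q ∈ connectedComponentIn (f.base ⁻¹' {t}) ((chartUnit eη).base t) ↔
      ρ.base q ∈ SGA3x.neutralSet (Red.bc tK G) := fun q => by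
    rw [mem_component_chart_iff, NeutralSet.neutralSet_bc, Set.mem_preimage, hρq]
    exact ⟨fun h => h.2, fun h => ⟨hfib q, h⟩⟩
  obtain ⟨z, hz⟩ := exists_isNGen (Red.bc tK G) (IsLocalRing.closedPoint K)
  have hone : ∀ w, (pullback.snd G.hom tK).base w = IsLocalRing.closedPoint K := fun w =>
    Subsingleton.elim (α := PrimeSpectrum K) _ _
  -- a point of the component
  obtain ⟨c, hc⟩ : (chartUnit eη).base t ∈ Set.range (f.fiberι t).base := (f.range_fiberι t).ge (by
    show f.base ((chartUnit eη).base t) = t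
    rw [← Scheme.Hom.comp_apply, chartUnit_comp]; rfl)
  obtain ⟨q₀, hq₀, -⟩ := Scheme.Pullback.exists_preimage_pullback (f := f.fiberToSpecResidueField t) (g := a) c
    (IsLocalRing.closedPoint K) (Subsingleton.elim (α := PrimeSpectrum (S₀.toScheme.residueField t)) _ _)
  have hq₀' : ρ.base q₀ ∈ SGA3x.neutralSet (Red.bc tK G) := (hN q₀).1 (by
    rw [Scheme.Hom.comp_apply, show p.base q₀ = c from hq₀, hc]
    exact mem_connectedComponentIn (by
      show f.base ((chartUnit eη).base t) = t
      rw [← Scheme.Hom.comp_apply, chartUnit_comp]; rfl))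
  obtain ⟨ζ, hζ⟩ : z ∈ Set.range ρ.base :=
    (hz.2.2 _ hq₀' (hone _)).mem_open ρ.isOpenEmbedding.isOpen_range ⟨q₀, rfl⟩
  have hζP : ζ ∈ (p ≫ f.fiberι t).base ⁻¹' connectedComponentIn (f.base ⁻¹' {t}) ((chartUnit eη).base t) :=
    (hN ζ).2 (hζ.symm ▸ hz.1)
  refine ⟨⟨ζ, hζP⟩, fun U V hU hV ⟨u, hu, huU⟩ ⟨v, hv, hvV⟩ => ?_⟩
  have hsp : ∀ q, (p ≫ f.fiberι t).base q ∈ connectedComponentIn (f.base ⁻¹' {t}) ((chartUnit eη).base t) → ζ ⤳ q :=
    fun q hq => ρ.isOpenEmbedding.toIsInducing.specializes_iff.1 (by rw [hζ]; exact hz.2.2 _ ((hN q).1 hq) (hone _))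
  exact ⟨ζ, hζP, (hsp u hu).mem_open hU huU, (hsp v hv).mem_open hV hvV⟩

theorem dim_component_chart (t : S₀.toScheme) :
    topologicalKrullDim ↥(connectedComponentIn ((G.hom.resLE S₀ W e).base ⁻¹' {t}) ((chartUnit eη).base t)) =
      topologicalKrullDim ↥(G.hom.base ⁻¹' {S₀.ι.base t}) := by
  let f := G.hom.resLE S₀ W e
  have hf : ∀ w, S₀.ι.base (f.base w) = G.hom.base (W.ι.base w) := fun w => by
    rw [← Scheme.Hom.comp_apply, Scheme.Hom.resLE_comp_ι, Scheme.Hom.comp_apply]
  haveI : LocallyOfFiniteType f := by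
    haveI : LocallyOfFiniteType (f ≫ S₀.ι) := by rw [Scheme.Hom.resLE_comp_ι]; infer_instance
    exact locallyOfFiniteType_of_comp f S₀.ι
  obtain ⟨z, hz⟩ := exists_isNGen G (S₀.ι.base t)
  have hzW : z ∈ W := hz.specializes_unit.mem_open W.2 (eη t.2)
  let zW : W.toScheme := ⟨z, hzW⟩
  have hzt : f.base zW = t := S₀.ι.isOpenEmbedding.injective (by rw [hf]; exact hz.2.1)
  obtain ⟨c, hc⟩ : zW ∈ Set.range (f.fiberι t).base := (f.range_fiberι t).ge hzt
  have hC : connectedComponentIn (f.base ⁻¹' {t}) ((chartUnit eη).base t) =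
      (f.fiberι t).base '' closure {c} := by
    ext x
    rw [mem_component_chart_iff]
    constructor
    · rintro ⟨hx, hN⟩
      obtain ⟨d, rfl⟩ : x ∈ Set.range (f.fiberι t).base := (f.range_fiberι t).ge hx
      refine ⟨d, specializes_iff_mem_closure.1 ((f.fiberι t).isEmbedding.isInducing.specializes_iff.1 ?_), rfl⟩
      rw [hc]
      exact W.ι.isOpenEmbedding.toIsInducing.specializes_iff.1 (hz.2.2 _ hN (by rw [← hf, hx]))
    · rintro ⟨d, hd, rfl⟩
      refine ⟨apply_fiberι f t d, mem_of_fibre_specialization hz.1 ?_ ?_⟩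
      · rw [← hf, show f.base ((f.fiberι t).base d) = t from apply_fiberι f t d]
        exact hz.2.1
      · have h := ((specializes_iff_mem_closure.2 hd).map (f.fiberι t).continuous).map W.ι.continuous
        rwa [hc] at h
  have hmax : ∀ w, f.base w = f.base zW → w ⤳ zW → w = zW := fun w hw hsp => W.ι.isOpenEmbedding.injective
    (IsNGen.isMax G hz _ (by rw [← hf w, hw, hf zW]; rfl) (hsp.map W.ι.continuous))
  calc topologicalKrullDim ↥(connectedComponentIn (f.base ⁻¹' {t}) ((chartUnit eη).base t))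
      = topologicalKrullDim ↥((f.fiberι t).base '' closure {c}) := by rw [hC]
    _ = topologicalKrullDim ↥(closure {c}) :=
      (((f.fiberι t).isEmbedding.homeomorphImage (closure {c})).symm).isHomeomorph.topologicalKrullDim_eq
    _ = (Order.height c : ℕ∞) := Groth.Variety2.Dim.dim_closure_singleton c
    _ = FlatMor.fibreDimAt f zW := by
      rw [(fibreDimAt_eq_height_of_max f hmax).1, ← hc, height_asFiber_fiberι]
    _ = FlatMor.fibreDimAt G.hom z := by
      refine Eq.trans ?_ (Groth.FibreDim.fibreDimAt_openImmersion_comp W.ι G.hom zW)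
      rw [← Scheme.Hom.resLE_comp_ι G.hom e]
      exact (Groth.FibreDim.fibreDimAt_comp_injective f S₀.ι S₀.ι.isOpenEmbedding.injective zW).symm
    _ = topologicalKrullDim ↥(G.hom.base ⁻¹' {S₀.ι.base t}) := by
      rw [fibreDimAt_eq_dim, hz.2.1]

variable [IsReduced S]

include e eη in
theorem unit_mem_smoothLocus_chart (hS₀ : IsAffineOpen S₀) (hW : IsAffineOpen W)
    (hfib : ∀ s : S, Smooth (pullback.snd G.hom (S.fromSpecResidueField s)))
    (hdim : IsLocallyConstant (fun s : S => topologicalKrullDim ↥(G.hom.base ⁻¹' {s}))) {s : S} (hs : s ∈ S₀) :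
    unit G s ∈ G.hom.smoothLocus := by
  haveI : IsAffine S₀.toScheme := hS₀
  haveI : IsAffine W.toScheme := hW
  let f := G.hom.resLE S₀ W e
  haveI : LocallyOfFinitePresentation f := by
    haveI : LocallyOfFinitePresentation (f ≫ S₀.ι) := by rw [Scheme.Hom.resLE_comp_ι]; infer_instance
    exact Groth.SpectralTopology.lfp_of_comp f S₀.ι
  let t : S₀.toScheme := ⟨s, hs⟩
  let x₀ : W.toScheme := (chartUnit eη).base t
  have hft : f.base x₀ = t := by rw [← Scheme.Hom.comp_apply, chartUnit_comp]; rfl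
  have hx₀ : W.ι.base x₀ = unit G s := by
    rw [← Scheme.Hom.comp_apply]
    show ((chartUnit eη) ≫ W.ι).base t = _
    rw [chartUnit, Scheme.Hom.resLE_comp_ι, Scheme.Hom.comp_apply]
    rfl
  have hflat : (f.stalkMap x₀).hom.Flat := by
    refine (Groth.Agent.S4955.result f (chartUnit eη) (chartUnit_comp e eη)
      (fun y K _ _ => isIrreducible_component_bc e eη y K) x₀ ?_ ?_).2 inferInstance ?_
    · show x₀ ∈ connectedComponentIn _ _
      rw [hft]
      exact mem_connectedComponentIn hft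
    · obtain ⟨U, hU, hsU, hconst⟩ := (IsLocallyConstant.iff_exists_open _).1 hdim s
      refine ⟨S₀.ι.base ⁻¹' U, (hU.preimage S₀.ι.continuous).mem_nhds (show f.base x₀ ∈ _ from hft.symm ▸ hsU),
        fun y hy => ?_⟩
      rw [hft, dim_component_chart e eη y, dim_component_chart e eη t]
      exact hconst _ hy
    · haveI := Groth.GeomComp.geometricallyReduced_fiber_resLE G.hom e (f.base x₀) fun c _ =>
        haveI : Smooth (G.hom.fiberToSpecResidueField (S₀.ι.base (f.base x₀))) := hfib _
        haveI : GeometricallyReduced (G.hom.fiberToSpecResidueField (S₀.ι.base (f.base x₀))) :=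
          Groth.GrpschAbsch.FibreFlat.geometricallyReduced_of_smooth _
        @Groth.GeomComp.isGeomReducedAt_of_geometricallyReduced _ _ _ _ (by assumption) c
      exact @Groth.GeomComp.isGeomReducedAt_of_geometricallyReduced _ _ _ _ (by assumption) _
  have hflat' : ∀ m : W.toScheme ⟶ S, m = f ≫ S₀.ι → (m.stalkMap x₀).hom.Flat := by
    rintro _ rfl
    rw [Scheme.Hom.stalkMap_comp]
    show RingHom.Flat ((f.stalkMap x₀).hom.comp (S₀.ι.stalkMap (f.base x₀)).hom)
    exact RingHom.Flat.comp (RingHom.Flat.of_bijective (ConcreteCategory.bijective_of_isIso (S₀.ι.stalkMap (f.base x₀)))) hflat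
  have key : x₀ ∈ (W.ι ≫ G.hom).smoothLocus := by
    let y := (W.ι ≫ G.hom).base x₀
    haveI := hfib y
    obtain ⟨j, hj, -, hj₂⟩ := Groth.GeomComp.exists_openImmersion_pullback (v := 𝟙 S) (f := G.hom) (i := W.ι)
      (Category.comp_id _) (IsPullback.of_hasPullback (W.ι ≫ G.hom) (S.fromSpecResidueField y))
    haveI : Smooth (pullback.snd G.hom (S.fromSpecResidueField y ≫ 𝟙 S)) := by
      rw [Category.comp_id]; exact hfib y
    haveI : Smooth ((W.ι ≫ G.hom).fiberToSpecResidueField y) := by
      show Smooth (pullback.snd (W.ι ≫ G.hom) (S.fromSpecResidueField y))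
      rw [← hj₂]
      infer_instance
    refine Groth.PropsBasic.Loci.mem_smoothLocus_of_fiber (f := W.ι ≫ G.hom)
      (hflat' _ (Scheme.Hom.resLE_comp_ι G.hom e).symm) ?_
    rw [Scheme.Hom.smoothLocus_eq_top]
    exact Set.mem_univ _
  rw [← Scheme.Hom.preimage_smoothLocus_eq] at key
  rw [← hx₀]
  exact key

theorem exists_smooth_nhd_unit (hfib : ∀ s : S, Smooth (pullback.snd G.hom (S.fromSpecResidueField s)))
    (hdim : IsLocallyConstant (fun s : S => topologicalKrullDim ↥(G.hom.base ⁻¹' {s}))) :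
    ∃ U : G.left.Opens, Smooth (U.ι ≫ G.hom) ∧ ∀ p : S, unit G p ∈ U := by
  refine ⟨G.hom.smoothLocus, ?_, fun s => ?_⟩
  · rw [← Scheme.Hom.smoothLocus_eq_top_iff, ← Scheme.Hom.preimage_smoothLocus_eq]
    exact top_le_iff.1 fun p _ => p.2
  · obtain ⟨S₀, W, hs, hS₀, hW, e, eη⟩ := exists_unit_chart (G := G) s
    exact unit_mem_smoothLocus_chart e eη hS₀ hW hfib hdim hs

end Groth.Sga3.NeutralGen
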