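import Groth.Agent.Sga3.NeutralGen.Cons

/-!
Sections with values in the neutral set coincide on a closed subscheme.
-/

set_option autoImplicit false
set_option linter.style.haveILetI false

universe u

open CategoryTheory CategoryTheory.Limits MonoidalCategory CartesianMonoidalCategory MonObj GrpObj
  AlgebraicGeometry TopologicalSpace Topology

noncomputable section

namespace Groth.Sga3.NeutralGen

open Groth.GrpschAbsch

variable {S : Scheme.{u}} (G : Over S) [GrpObj G]

/-- Left translation as an action. -/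
def selfAction : AlgGrp.Action G G where
  act := μ[G]
  one_act := MonObj.one_mul G
  mul_act := MonObj.mul_assoc G

variable {G}

theorem neutralSet_subset_neutralMul {S₀ : S.Opens} {W : G.left.Opens} (eη : S₀ ≤ η[G].left ⁻¹ᵁ W)
    {x : G.left} (hx : x ∈ SGA3x.neutralSet G) (hxS : G.hom.base x ∈ S₀) :
    x ∈ neutralMul (selfAction G) W := by
  let d : G ⟶ G ⊗ G := lift (GrpObj.inv (X := G)) (𝟙 G)
  refine ⟨d.left.base x, ?_, ?_, ?_⟩
  · rw [← Scheme.Hom.comp_apply, ← Over.comp_left, lift_fst]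
    exact inv_mem_neutralSet hx
  · rw [← Scheme.Hom.comp_apply, ← Over.comp_left, lift_snd]; rfl
  · rw [← Scheme.Hom.comp_apply, ← Over.comp_left]
    have h : d ≫ (selfAction G).act = (1 : G ⟶ G) := by
      show lift (GrpObj.inv (X := G)) (𝟙 G) ≫ μ[G] = 1
      rw [← Hom.mul_def, show (GrpObj.inv (X := G)) = (𝟙 G : G ⟶ G)⁻¹ by rw [Hom.inv_def, Category.id_comp],
        inv_mul_cancel]
    rw [h, Hom.one_def, Over.comp_left, Scheme.Hom.comp_apply]
    exact eη (by
      show (toUnit G).left.base x ∈ S₀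
      exact hxS)

theorem isClosedImmersion_coincidence [LocallyOfFinitePresentation G.hom] (hd : ConstDim G)
    (σ τ : 𝟙_ (Over S) ⟶ G) (hσ : Set.range σ.left.base ⊆ SGA3x.neutralSet G)
    (hτ : Set.range τ.left.base ⊆ SGA3x.neutralSet G) :
    IsClosedImmersion (pullback.fst (lift σ τ) (lift (𝟙 G) (𝟙 G))).left := by
  let Δ := lift (𝟙 G) (𝟙 G)
  let P := pullback (lift σ τ) Δ
  let p : P ⟶ 𝟙_ (Over S) := pullback.fst (lift σ τ) Δ
  haveI : IsImmersion Δ.left := by
    have : Δ.left = pullback.diagonal G.hom := by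
      apply pullback.hom_ext
      · rw [pullback.diagonal_fst]
        exact congrArg CommaMorphism.left (lift_fst (𝟙 G) (𝟙 G))
      · rw [pullback.diagonal_snd]
        exact congrArg CommaMorphism.left (lift_snd (𝟙 G) (𝟙 G))
    rw [this]
    infer_instance
  haveI : IsImmersion p.left :=
    MorphismProperty.of_isPullback ((IsPullback.of_hasPullback (lift σ τ) Δ).map (Over.forget S)).flip
      ‹IsImmersion Δ.left›
  refine IsClosedImmersion.of_isPreimmersion p.left (isClosed_of_closure_subset fun (t : S) ht => ?_)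
  obtain ⟨S₀, W, htS, hS₀, hW, e, eη⟩ := exists_unit_chart (G := G) t
  have hWs : IsSeparated (W.ι ≫ G.hom) := by
    haveI : IsAffine S₀.toScheme := hS₀
    haveI : IsAffine W.toScheme := hW
    rw [← Scheme.Hom.resLE_comp_ι G.hom e]
    infer_instance
  let V : G.left.Opens := ⟨neutralMul (selfAction G) W, isOpen_neutralMul hd⟩
  have hV : IsSeparated (V.ι ≫ G.hom) := isSeparated_neutralMul (a := selfAction G) hd hWs V subset_rfl
  let Vo : Over S := Over.mk (V.ι ≫ G.hom)
  let jV : Vo ⟶ G := Over.homMk V.ι rfl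
  haveI : Mono jV.left := inferInstanceAs (Mono V.ι)
  haveI : Mono jV := Over.mono_of_mono_left jV
  let So : Over S := Over.mk S₀.ι
  let io : So ⟶ 𝟙_ (Over S) := Over.homMk S₀.ι (Category.comp_id _)
  have hlift : ∀ φ : 𝟙_ (Over S) ⟶ G, Set.range φ.left.base ⊆ SGA3x.neutralSet G →
      ∃ φ' : So ⟶ Vo, φ' ≫ jV = io ≫ φ := fun φ hφ => by
    have hr : Set.range (io ≫ φ).left.base ⊆ Set.range V.ι.base := by
      rintro _ ⟨o, rfl⟩
      rw [V.range_ι]
      refine neutralSet_subset_neutralMul eη (hφ ⟨_, rfl⟩) ?_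
      rw [← Scheme.Hom.comp_apply, Over.w]
      exact o.2
    refine ⟨Over.homMk (IsOpenImmersion.lift V.ι (io ≫ φ).left hr) ?_,
      Over.OverMorphism.ext (IsOpenImmersion.lift_fac _ _ _)⟩
    show _ ≫ V.ι ≫ G.hom = _
    rw [IsOpenImmersion.lift_fac_assoc, Over.w (io ≫ φ)]
  obtain ⟨σ', hσ'⟩ := hlift σ hσ
  obtain ⟨τ', hτ'⟩ := hlift τ hτ
  let δ : Vo ⟶ Vo ⊗ Vo := lift (𝟙 Vo) (𝟙 Vo)
  have hδ : δ.left = pullback.diagonal Vo.hom := by
    apply pullback.hom_ext
    · rw [pullback.diagonal_fst]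
      exact congrArg CommaMorphism.left (lift_fst (𝟙 Vo) (𝟙 Vo))
    · rw [pullback.diagonal_snd]
      exact congrArg CommaMorphism.left (lift_snd (𝟙 Vo) (𝟙 Vo))
  have hD : IsClosed (Set.range δ.left.base) := by
    have : IsClosedImmersion (pullback.diagonal Vo.hom) := hV.isClosedImmersion_diagonal
    rw [hδ]
    exact (pullback.diagonal Vo.hom).isClosedEmbedding.isClosed_range
  let ψ : So ⟶ Vo ⊗ Vo := lift σ' τ'
  let ts : ↥S₀.toScheme := ⟨t, htS⟩
  have htc : ts ∈ closure (ψ.left.base ⁻¹' Set.range δ.left.base) := by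
    refine mem_closure_iff_nhds.2 fun N hN => ?_
    obtain ⟨_, ⟨d, hd', rfl⟩, m, hm⟩ :=
      mem_closure_iff_nhds.1 ht _ (S₀.ι.isOpenEmbedding.isOpenMap.image_mem_nhds (x := ts) hN)
    refine ⟨d, hd', ?_⟩
    let M : P.left.Opens := p.left ⁻¹ᵁ S₀
    let Mo : Over S := Over.mk (M.ι ≫ P.hom)
    let im : Mo ⟶ P := Over.homMk M.ι rfl
    have hr : Set.range (im ≫ p).left.base ⊆ Set.range S₀.ι.base := by
      rintro _ ⟨o, rfl⟩
      rw [S₀.range_ι]
      exact (o : ↥M.toScheme).2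
    let k : Mo ⟶ So := Over.homMk (IsOpenImmersion.lift S₀.ι (im ≫ p).left hr) (by
      show IsOpenImmersion.lift _ _ _ ≫ S₀.ι = _
      rw [IsOpenImmersion.lift_fac]
      exact (Category.comp_id _).symm.trans (Over.w (im ≫ p)))
    have hk : k ≫ io = im ≫ p := Over.OverMorphism.ext (IsOpenImmersion.lift_fac _ _ _)
    have hm' : m ∈ M := show p.left.base m ∈ S₀ from hm.symm ▸ d.2
    have hkm : k.left.base ⟨m, hm'⟩ = d := S₀.ι.isOpenEmbedding.injective
      ((congrArg (fun φ : Mo ⟶ 𝟙_ (Over S) => φ.left.base ⟨m, hm'⟩) hk).trans hm)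
    have hpp : p ≫ σ = p ≫ τ := by
      have h1 := congrArg (· ≫ fst G G) (pullback.condition (f := lift σ τ) (g := Δ))
      have h2 := congrArg (· ≫ snd G G) (pullback.condition (f := lift σ τ) (g := Δ))
      simp [Δ] at h1 h2
      exact h1.trans h2.symm
    have hkk : k ≫ σ' = k ≫ τ' := by
      rw [← cancel_mono jV, Category.assoc, Category.assoc, hσ', hτ', ← Category.assoc, hk, Category.assoc,
        hpp, ← Category.assoc im p, ← hk, Category.assoc]
    refine ⟨(k ≫ σ').left.base ⟨m, hm'⟩, ?_⟩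
    rw [← hkm, ← Scheme.Hom.comp_apply, ← Scheme.Hom.comp_apply, ← Over.comp_left, ← Over.comp_left]
    have : (k ≫ σ') ≫ δ = k ≫ ψ := by
      apply CartesianMonoidalCategory.hom_ext
      · simp [δ, ψ]
      · simp [δ, ψ, hkk]
    rw [this]
  obtain ⟨u₀, hu₀⟩ := (hD.preimage ψ.left.continuous).closure_subset htc
  obtain ⟨m, hm, -⟩ := Scheme.Pullback.exists_preimage_pullback (f := ψ.left) (g := δ.left) ts u₀ hu₀.symm
  let Mo : Over S := Over.mk (pullback.fst ψ.left δ.left ≫ So.hom)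
  let r : Mo ⟶ So := Over.homMk (pullback.fst ψ.left δ.left) rfl
  let r₂ : Mo ⟶ Vo := Over.homMk (pullback.snd ψ.left δ.left) (by
    show _ ≫ Vo.hom = pullback.fst ψ.left δ.left ≫ So.hom
    rw [← Over.w δ, ← Over.w ψ, pullback.condition_assoc])
  have hr : r ≫ ψ = r₂ ≫ δ := Over.OverMorphism.ext pullback.condition
  have hr₁ : r ≫ σ' = r ≫ τ' := by
    have h1 := congrArg (· ≫ fst Vo Vo) hr
    have h2 := congrArg (· ≫ snd Vo Vo) hr
    simp [ψ, δ] at h1 h2
    rw [h1, h2]
  have hR : (r ≫ io) ≫ σ = (r ≫ io) ≫ τ := by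
    rw [Category.assoc, Category.assoc, ← hσ', ← hτ', reassoc_of% hr₁]
  have hl : (r ≫ io) ≫ lift σ τ = ((r ≫ io) ≫ σ) ≫ Δ := by
    apply CartesianMonoidalCategory.hom_ext
    · simp [Δ]
    · simpa [Δ] using hR.symm
  refine ⟨(pullback.lift (r ≫ io) ((r ≫ io) ≫ σ) hl).left.base m, ?_⟩
  rw [← Scheme.Hom.comp_apply, ← Over.comp_left, pullback.lift_fst]
  show S₀.ι.base ((pullback.fst ψ.left δ.left).base m) = t
  rw [hm]
  rfl

end Groth.Sga3.NeutralGen
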