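import Groth.Agent.GrpschAbsch.NeutralSet
import Groth.Agent.GrpschAbsch.ConnectedUnit
import Groth.Agent.FibreDim.GroupScheme
import Groth.Agent.Misc6.Equidim
import Groth.Agent.EGA43Topo.UnivOpenFibre
import Groth.Agent.Sga3.QuasiSection.Main

/-!
The generic point of the neutral component of each fibre of a group scheme, and its behaviour under
specialization and base change.
-/

set_option autoImplicit false
set_option linter.style.haveILetI false

universe u

open CategoryTheory CategoryTheory.Limits MonoidalCategory CartesianMonoidalCategory MonObj GrpObj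
  AlgebraicGeometry TopologicalSpace Topology

noncomputable section

namespace Groth.Sga3.NeutralGen

open Groth.FibreDim Groth.GrpschAbsch

theorem height_asFiber_fiberι {X Y : Scheme.{u}} (f : X ⟶ Y) (y : Y) (c : f.fiber y) :
    Order.height (f.asFiber ((f.fiberι y).base c)) = Order.height c := by
  suffices key : ∀ (x : X) (y : Y) (_ : f.base x = y) (c : f.fiber y), (f.fiberι y).base c = x →
      Order.height (f.asFiber x) = Order.height c from key _ y (apply_fiberι f y c) c rfl
  rintro x _ rfl c hc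
  have : c = f.asFiber x := (f.fiberι _).isEmbedding.injective (hc.trans (f.fiberι_asFiber x).symm)
  rw [this]

/-- In a fibre, a proper specialization lowers the height. -/
theorem eq_of_specializes_of_height_le {X Y : Scheme.{u}} (f : X ⟶ Y) [LocallyOfFiniteType f] {a b : X}
    (hab : a ⤳ b) (he : f.base a = f.base b)
    (h : Order.height (f.asFiber a) ≤ Order.height (f.asFiber b)) : a = b := by
  obtain ⟨cb, hcb⟩ : b ∈ Set.range (f.fiberι (f.base a)).base := (f.range_fiberι _).ge he.symm
  obtain ⟨n, -, hn⟩ := exists_relTrdeg_eq_height f b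
  by_contra hne
  have hle : cb ≤ f.asFiber a := (f.fiberι (f.base a)).isEmbedding.isInducing.specializes_iff.1 (by
    rw [hcb, f.fiberι_asFiber]; exact hab)
  have hlt : cb < f.asFiber a := lt_of_le_not_ge hle fun h' => hne (by
    rw [← hcb, ((show cb ⤳ f.asFiber a from h').antisymm (show f.asFiber a ⤳ cb from hle)).eq, f.fiberι_asFiber])
  have hh : Order.height (f.asFiber b) = Order.height cb := by
    rw [← hcb]; exact height_asFiber_fiberι f _ cb
  have := Order.height_strictMono hlt (hh ▸ hn ▸ ENat.natCast_lt_top n)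
  exact absurd h (not_le.2 (hh ▸ this))

variable {S : Scheme.{u}} (G : Over S) [GrpObj G]

abbrev unit (s : S) : G.left := η[G].left.base s

theorem hom_unit (s : S) : G.hom.base (unit G s) = s := NeutralSet.hom_one_apply G s

theorem unit_mem (s : S) : unit G s ∈ SGA3x.neutralSet G :=
  Set.mem_iUnion.2 ⟨s, mem_connectedComponentIn (hom_unit G s)⟩

/-- The generic point of the neutral component of the fibre over `s`. -/
def IsNGen (s : S) (z : G.left) : Prop :=
  z ∈ SGA3x.neutralSet G ∧ G.hom.base z = s ∧ ∀ w ∈ SGA3x.neutralSet G, G.hom.base w = s → z ⤳ w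

variable {G}

theorem IsNGen.eq {s : S} {z z' : G.left} (h : IsNGen G s z) (h' : IsNGen G s z') : z = z' :=
  ((h.2.2 z' h'.1 h'.2.1).antisymm (h'.2.2 z h.1 h.2.1)).eq

theorem IsNGen.specializes_unit {s : S} {z : G.left} (h : IsNGen G s z) : z ⤳ unit G s :=
  h.2.2 _ (unit_mem G s) (hom_unit G s)

variable (G)

theorem exists_isNGen (s : S) : ∃ z, IsNGen G s z := by
  let GK : Over (Spec (CommRingCat.of (S.residueField s))) :=
    (Over.pullback (S.fromSpecResidueField s)).obj G
  letI : GrpObj GK := Functor.grpObjObj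
  have h1 : unitPt GK = NeutralSet.oneFib G s := NeutralSet.one_pullback_eq G s
  have hirr : IsIrreducible (connectedComponent (unitPt GK)) := isIrreducible_connectedComponent_one GK
  rw [h1] at hirr
  change IsIrreducible (connectedComponent (NeutralSet.oneFib G s : ↥(G.hom.fiber s))) at hirr
  obtain ⟨g, hg⟩ := QuasiSober.sober hirr isClosed_connectedComponent
  refine ⟨(G.hom.fiberι s).base g, ⟨(NeutralSet.fiberι_mem_iff G s g).2 hg.mem, apply_fiberι G.hom s g,
    fun w hw hws => ?_⟩⟩
  obtain ⟨c, rfl⟩ : w ∈ Set.range (G.hom.fiberι s).base := (G.hom.range_fiberι s).ge hws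
  exact (hg.specializes ((NeutralSet.fiberι_mem_iff G s c).1 hw)).map (G.hom.fiberι s).continuous

/-- A generization inside the fibre of a point of the neutral set lies in the neutral set. -/
theorem mem_of_fibre_generization {w a : G.left} (ha : a ∈ SGA3x.neutralSet G) (he : G.hom.base w = G.hom.base a)
    (h : w ⤳ a) : w ∈ SGA3x.neutralSet G := by
  obtain ⟨cw, hcw⟩ : w ∈ Set.range (G.hom.fiberι (G.hom.base a)).base := (G.hom.range_fiberι _).ge he
  obtain ⟨ca, hca⟩ : a ∈ Set.range (G.hom.fiberι (G.hom.base a)).base := (G.hom.range_fiberι _).ge rfl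
  rw [← hca, NeutralSet.fiberι_mem_iff] at ha
  rw [← hcw, NeutralSet.fiberι_mem_iff, connectedComponent_eq ha]
  have hsp : cw ⤳ ca := (G.hom.fiberι _).isEmbedding.isInducing.specializes_iff.1 (by rw [hcw, hca]; exact h)
  have hsub := (isIrreducible_singleton (x := cw)).closure.isConnected.isPreconnected.subset_connectedComponent
    (specializes_iff_mem_closure.1 hsp)
  exact hsub (subset_closure rfl)

theorem IsNGen.isMax {s : S} {z : G.left} (h : IsNGen G s z) :
    ∀ w, G.hom.base w = G.hom.base z → w ⤳ z → w = z := fun w he hw =>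
  (hw.antisymm (h.2.2 w (mem_of_fibre_generization G h.1 he hw) (he.trans h.2.1))).eq

variable [LocallyOfFiniteType G.hom]

theorem fibreDimAt_eq_dim (x : G.left) :
    FlatMor.fibreDimAt G.hom x = topologicalKrullDim ↥(G.hom.base ⁻¹' {G.hom.base x}) := by
  haveI : LocallyOfFiniteType (Over.mk (pullback.snd G.hom (S.fromSpecResidueField (G.hom.base x)))).hom :=
    inferInstanceAs (LocallyOfFiniteType (pullback.snd G.hom (S.fromSpecResidueField (G.hom.base x))))
  letI : GrpObj (Over.mk (pullback.snd G.hom (S.fromSpecResidueField (G.hom.base x)))) :=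
    inferInstanceAs (GrpObj ((Over.pullback (S.fromSpecResidueField (G.hom.base x))).obj G))
  conv_lhs => rw [← G.hom.fiberι_asFiber x]
  rw [fibreDimAt_fiberι]
  exact (localDim_eq_dim_of_grpObj (k := S.residueField (G.hom.base x))
    (Over.mk (pullback.snd G.hom (S.fromSpecResidueField (G.hom.base x)))) (G.hom.asFiber x)).trans
    (G.hom.fiberHomeo (G.hom.base x)).isHomeomorph.topologicalKrullDim_eq

/-- The fibre dimension takes the same value on specializations. -/
def ConstDim : Prop :=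
  ∀ t s : S, t ⤳ s → topologicalKrullDim ↥(G.hom.base ⁻¹' {t}) = topologicalKrullDim ↥(G.hom.base ⁻¹' {s})

theorem constDim_of_isLocallyConstant
    (h : IsLocallyConstant (fun s : S => topologicalKrullDim ↥(G.hom.base ⁻¹' {s}))) : ConstDim G :=
  fun t s hts => by
    obtain ⟨U, hU, hsU, hc⟩ := (IsLocallyConstant.iff_exists_open _).1 h s
    exact hc t (hts.mem_open hU hsU)

variable {G}

/-- Neutral generic points follow specializations when the dimension is constant. -/
theorem IsNGen.specializes (hd : ConstDim G) {t s : S} (hts : t ⤳ s) {z z' : G.left}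
    (hz : IsNGen G t z) (hz' : IsNGen G s z') : z ⤳ z' := by
  have hu : z ⤳ unit G s := hz.specializes_unit.trans (hts.map η[G].left.continuous)
  let Z : Closeds G.left := ⟨closure {z}, isClosed_closure⟩
  let J := Scheme.IdealSheafData.vanishingIdeal Z
  let i := J.subschemeι
  have hr : Set.range i.base = closure {z} := by
    rw [Scheme.IdealSheafData.range_subschemeι, Scheme.IdealSheafData.coe_support_vanishingIdeal]
    rfl
  haveI : LocallyOfFiniteType (i ≫ G.hom) := inferInstance
  obtain ⟨y₁, hy₁⟩ := hr.ge (subset_closure rfl : z ∈ closure ({z} : Set G.left))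
  obtain ⟨y₀, hy₀⟩ := hr.ge (specializes_iff_mem_closure.1 hu)
  have hy : y₁ ⤳ y₀ := i.isEmbedding.isInducing.specializes_iff.1 (by rw [hy₁, hy₀]; exact hu)
  obtain ⟨n, hn, hn'⟩ := exists_relTrdeg_eq_height G.hom z
  have hnz : FlatMor.fibreDimAt G.hom z = (n : ℕ) := by
    rw [(fibreDimAt_eq_height_of_max G.hom (IsNGen.isMax G hz)).1, hn']
    rfl
  obtain ⟨n₁, hn₁, hn₁'⟩ := exists_relTrdeg_eq_height (i ≫ G.hom) y₁
  rw [Groth.Misc6.Equidim.relTrdeg_comp_preimmersion G.hom i y₁, hy₁, hn] at hn₁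
  have hmax₁ : ∀ w, (i ≫ G.hom).base w = (i ≫ G.hom).base y₁ → w ⤳ y₁ → w = y₁ := fun w hw hsp =>
    i.isEmbedding.injective <| by
      rw [hy₁]
      simp only [Scheme.Hom.comp_apply, hy₁] at hw
      exact IsNGen.isMax G hz _ hw (hy₁ ▸ hsp.map i.continuous)
  obtain ⟨m, hm⟩ := fibreDimAt_ne_top (i ≫ G.hom) y₀
  have hnm : n ≤ m := by
    have h := hy.mem_open (isOpen_fibreDimAt_le (i ≫ G.hom) m) (show y₀ ∈ _ from hm.le)
    have h2 : FlatMor.fibreDimAt (i ≫ G.hom) y₁ ≤ (m : WithBot ℕ∞) := h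
    rw [(fibreDimAt_eq_height_of_max (i ≫ G.hom) hmax₁).1, hn₁', ← Nat.cast_inj.1 hn₁] at h2
    exact_mod_cast h2
  obtain ⟨w, hfw, hw, -, hwh⟩ := exists_maximal_fibre_point (i ≫ G.hom) y₀
  obtain ⟨k₁, hk₁, hk₁'⟩ := exists_relTrdeg_eq_height (i ≫ G.hom) w
  obtain ⟨k₂, hk₂, hk₂'⟩ := exists_relTrdeg_eq_height G.hom (i.base w)
  rw [Groth.Misc6.Equidim.relTrdeg_comp_preimmersion G.hom i w, hk₂] at hk₁
  rw [hk₁', hm] at hwh
  have hk : k₁ = m := by exact_mod_cast hwh
  have hk2 : k₂ = k₁ := Nat.cast_inj.1 hk₁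
  have hws : G.hom.base (i.base w) = s := by
    rw [← Scheme.Hom.comp_apply, hfw, Scheme.Hom.comp_apply, hy₀, hom_unit]
  have hwu : i.base w ⤳ unit G s := hy₀ ▸ hw.map i.continuous
  have hwN := mem_of_fibre_generization G (unit_mem G s) (hws.trans (hom_unit G s).symm) hwu
  obtain ⟨n', hn2, hn2'⟩ := exists_relTrdeg_eq_height G.hom z'
  have hnn : n' = n := by
    have h1 : FlatMor.fibreDimAt G.hom z' = (n' : ℕ) := by
      rw [(fibreDimAt_eq_height_of_max G.hom (IsNGen.isMax G hz')).1, hn2']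
      rfl
    have h2 := fibreDimAt_eq_dim G z'
    rw [hz'.2.1, ← hd t s hts, ← hz.2.1, ← fibreDimAt_eq_dim G z, h1, hnz] at h2
    exact_mod_cast h2
  have : z' = i.base w := eq_of_specializes_of_height_le G.hom (hz'.2.2 _ hwN hws) (hz'.2.1.trans hws.symm) (by
    rw [hn2', hk₂', hnn, hk2, hk]
    exact_mod_cast hnm)
  rw [this, specializes_iff_mem_closure, ← hr]
  exact ⟨w, rfl⟩

omit [LocallyOfFiniteType G.hom] in
/-- Neutral generic points map to neutral generic points under base change. -/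
theorem IsNGen.map {T T' : Scheme.{u}} (t : T ⟶ S) (t' : T' ⟶ S) (φ : T' ⟶ T) (hφ : φ ≫ t = t')
    {m : pullback G.hom t' ⟶ pullback G.hom t} (hm₁ : m ≫ pullback.fst G.hom t = pullback.fst G.hom t')
    (hm₂ : m ≫ pullback.snd G.hom t = pullback.snd G.hom t' ≫ φ) {p : T'}
    {z : ↥(pullback G.hom t')} (hz : IsNGen (Red.bc t' G) p z) :
    IsNGen (Red.bc t G) (φ.base p) (m.base z) := by
  have hN : ∀ q : ↥(pullback G.hom t'), m.base q ∈ SGA3x.neutralSet (Red.bc t G) ↔
      q ∈ SGA3x.neutralSet (Red.bc t' G) := fun q => by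
    rw [NeutralSet.neutralSet_bc, NeutralSet.neutralSet_bc, Set.mem_preimage, Set.mem_preimage,
      ← Scheme.Hom.comp_apply, hm₁]
  have hs : (pullback.snd G.hom t).base (m.base z) = φ.base p := by
    rw [← Scheme.Hom.comp_apply, hm₂, Scheme.Hom.comp_apply]
    exact congrArg φ.base hz.2.1
  refine ⟨(hN z).2 hz.1, hs, fun w hw hws => ?_⟩
  have sq : IsPullback m (pullback.snd G.hom t') (pullback.snd G.hom t) φ := by
    refine IsPullback.of_right ?_ hm₂ (IsPullback.of_hasPullback G.hom t)
    rw [hm₁, hφ]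
    exact IsPullback.of_hasPullback G.hom t'
  obtain ⟨q, hq₁, hq₂⟩ := Scheme.exists_preimage_of_isPullback sq w p hws
  exact hq₁ ▸ (hz.2.2 q ((hN q).1 (hq₁.symm ▸ hw)) hq₂).map m.continuous

theorem constDim_bc (hd : ConstDim G) {T : Scheme.{u}} (t : T ⟶ S) :
    haveI : LocallyOfFiniteType (Red.bc t G).hom := inferInstanceAs (LocallyOfFiniteType (pullback.snd G.hom t))
    ConstDim (Red.bc t G) := by
  haveI : LocallyOfFiniteType (Red.bc t G).hom := inferInstanceAs (LocallyOfFiniteType (pullback.snd G.hom t))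
  have key : ∀ p : T, topologicalKrullDim ↥((Red.bc t G).hom.base ⁻¹' {p}) =
      topologicalKrullDim ↥(G.hom.base ⁻¹' {t.base p}) := fun p => by
    have h1 := fibreDimAt_eq_dim (Red.bc t G) (unit (Red.bc t G) p)
    rw [hom_unit] at h1
    rw [← h1]
    refine (fibreDimAt_baseChange G.hom t (pullback.snd G.hom t) (pullback.fst G.hom t)
      (IsPullback.of_hasPullback G.hom t) (unit (Red.bc t G) p)).trans ?_
    refine (fibreDimAt_eq_dim G _).trans ?_
    have h2 : G.hom.base ((pullback.fst G.hom t).base (unit (Red.bc t G) p)) = t.base p := by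
      rw [← Scheme.Hom.comp_apply, pullback.condition, Scheme.Hom.comp_apply]
      exact congrArg t.base (hom_unit (Red.bc t G) p)
    rw [h2]
  intro p q hpq
  rw [key, key]
  exact hd _ _ (hpq.map t.continuous)

theorem isOpenAt_of_isNGen [LocallyOfFinitePresentation G.hom] (hd : ConstDim G) {s : S} {z : G.left}
    (hz : IsNGen G s z) : EGA43.IsOpenAt G.hom.base z := by
  intro N hN
  obtain ⟨N₀, hN₀N, hN₀, hzN₀⟩ := mem_nhds_iff.1 hN
  obtain ⟨W, hW, hsW, -⟩ := exists_isAffineOpen_mem_and_subset (U := ⊤) (Set.mem_univ (G.hom.base z))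
  obtain ⟨V, hV, hzV, hVN⟩ := exists_isAffineOpen_mem_and_subset
    (U := G.hom ⁻¹ᵁ W ⊓ ⟨N₀, hN₀⟩) (x := z) ⟨hsW, hzN₀⟩
  have e : V ≤ G.hom ⁻¹ᵁ W := fun a ha => (hVN ha).1
  let φ := G.hom.appLE W V e
  have hfac : ∀ c, G.hom.base (hV.fromSpec.base c) = hW.fromSpec.base (PrimeSpectrum.comap φ.hom c) := fun c => by
    rw [← Scheme.Hom.comp_apply, ← hW.SpecMap_appLE_fromSpec G.hom hV e]
    rfl
  have hC := PrimeSpectrum.isConstructible_range_comap (f := φ.hom) (G.hom.finitePresentation_appLE hW hV e)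
  obtain ⟨a, ha⟩ := hW.range_fromSpec.ge hsW
  have hnh := Groth.Sga3.QuasiSection.mem_nhds_of_isConstructible_of_generizations hC (a := a) fun b hb => by
    obtain ⟨z₁, hz₁⟩ := exists_isNGen G (hW.fromSpec.base b)
    have hsp : z₁ ⤳ z := hz₁.specializes hd (by
      rw [← hz.2.1, ← ha]; exact hb.map hW.fromSpec.continuous) hz
    obtain ⟨c, hc⟩ := hV.range_fromSpec.ge (hsp.mem_open V.2 hzV)
    refine ⟨c, hW.fromSpec.isOpenEmbedding.injective ?_⟩
    rw [← hfac, hc, hz₁.2.1]
  have h3 := hW.fromSpec.isOpenEmbedding.isOpenMap.image_mem_nhds hnh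
  rw [ha] at h3
  refine Filter.mem_of_superset h3 ?_
  rintro _ ⟨_, ⟨c, rfl⟩, rfl⟩
  exact ⟨hV.fromSpec.base c, hN₀N (hVN (hV.range_fromSpec.le ⟨c, rfl⟩)).2, hfac c⟩

/-- The universal openness along the neutral components. -/
theorem isUnivOpenAt_of_mem_neutralSet [LocallyOfFinitePresentation G.hom] (hd : ConstDim G) {x : G.left}
    (hx : x ∈ SGA3x.neutralSet G) : EGA43.IsUnivOpenAt G.hom x := by
  intro T t q hq
  haveI : LocallyOfFiniteType (Red.bc t G).hom := inferInstanceAs (LocallyOfFiniteType (pullback.snd G.hom t))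
  haveI : LocallyOfFinitePresentation (Red.bc t G).hom :=
    inferInstanceAs (LocallyOfFinitePresentation (pullback.snd G.hom t))
  obtain ⟨z, hz⟩ := exists_isNGen (Red.bc t G) ((pullback.snd G.hom t).base q)
  have hqN : q ∈ SGA3x.neutralSet (Red.bc t G) := by
    rw [NeutralSet.neutralSet_bc, Set.mem_preimage, hq]
    exact hx
  exact Groth.EGA43Topo.isOpenAt_of_generization_of_eq (f := (Red.bc t G).hom) (hz.2.2 q hqN rfl) hz.2.1
    (isOpenAt_of_isNGen (constDim_bc hd t) hz)

end Groth.Sga3.NeutralGen
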