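import Groth.Agent.Sga3.NeutralGen.Cons
import Groth.Agent.FibreDim.LowerSemicont

/-!
If the points with values in the neutral set are representable, the neutral set is open.
-/

set_option autoImplicit false
set_option linter.style.haveILetI false

universe u

open CategoryTheory CategoryTheory.Limits MonoidalCategory CartesianMonoidalCategory MonObj GrpObj
  AlgebraicGeometry TopologicalSpace Topology

noncomputable section

namespace Groth.Sga3.NeutralGen

open Groth.GrpschAbsch Groth.Limits Groth.Calg2.ProCons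

theorem exists_prime_comap_eq_ker {V R : Type u} [CommRing V] [CommRing R] (φ : V →+* R)
    (h : (RingHom.ker φ).IsPrime) : ∃ P : PrimeSpectrum R, P.asIdeal.comap φ = RingHom.ker φ := by
  obtain ⟨q, hq, hq'⟩ := Ideal.exists_comap_eq_of_mem_minimalPrimes φ (I := ⊥) (RingHom.ker φ)
    (by rw [← RingHom.ker_eq_comap_bot, Ideal.minimalPrimes_eq_subsingleton_self]; rfl)
  exact ⟨⟨q, hq⟩, hq'.2⟩

/-- A subset of the spectrum of a valuation ring, containing the closed point, whose complement is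
pro-constructible and which contains the prime cut out by the principal closed subsets it contains,
is everything. -/
theorem eq_univ_of_valuation {V : Type u} [CommRing V] [IsDomain V] [ValuationRing V]
    {E : Set ↥(Spec (CommRingCat.of V))} (hm : IsLocalRing.closedPoint V ∈ E) (hE : PC Eᶜ)
    (hlim : ∀ q : PrimeSpectrum V,
      (∀ x, x ∈ q.asIdeal ↔ ∀ a : V, ¬ IsUnit a → PrimeSpectrum.zeroLocus {a} ⊆ (E : Set (PrimeSpectrum V)) → a ∣ x) → q ∈ E) :
    E = Set.univ := by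
  classical
  let J : Set V := {a | ¬ IsUnit a ∧ PrimeSpectrum.zeroLocus {a} ⊆ (E : Set (PrimeSpectrum V))}
  have key : ∀ q : PrimeSpectrum V, q ∈ E → ∃ b c : V, b ∈ q.asIdeal ∧ c ∉ q.asIdeal ∧
      ∀ p : PrimeSpectrum V, b ∈ p.asIdeal → c ∉ p.asIdeal → p ∈ E := fun q hq => by
    haveI : QuasiSeparatedSpace ↥(Spec (CommRingCat.of V)) := inferInstance
    obtain ⟨T, hT, hET, hqT⟩ := exists_constructible_sep hE (p := q) (not_not.2 hq)
    obtain ⟨D, hD⟩ := PrimeSpectrum.exists_constructibleSetData_iff.2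
      (show IsConstructible (Tᶜ : Set (PrimeSpectrum V)) from hT.compl)
    obtain ⟨C, hC, hqC⟩ := Set.mem_iUnion₂.1 (hD.ge hqT : q ∈ D.toSet)
    obtain ⟨b, hb⟩ := (IsBezout.isPrincipal_of_FG (Ideal.span (Set.range C.g))
      (Submodule.fg_span (Set.finite_range _))).principal
    refine ⟨b, C.f, ?_, fun h => hqC.2 (by simpa using h), fun p hp hcp => ?_⟩
    · have h1 : Ideal.span (Set.range C.g) ≤ q.asIdeal := Ideal.span_le.2 hqC.1
      exact h1 (hb.symm ▸ Submodule.mem_span_singleton_self b)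
    · have h1 : Ideal.span (Set.range C.g) ≤ p.asIdeal := by
        rw [hb]
        exact (Submodule.span_singleton_le_iff_mem _ _).2 hp
      have hpT : p ∈ (Tᶜ : Set (PrimeSpectrum V)) := by
        rw [← hD]
        exact Set.mem_iUnion₂.2 ⟨C, hC, Ideal.span_le.1 h1, by simpa using hcp⟩
      exact by_contra fun hne => hpT (hET hne)
  by_cases h0 : PrimeSpectrum.zeroLocus {(0 : V)} ⊆ (E : Set (PrimeSpectrum V))
  · exact Set.eq_univ_of_forall fun p => h0 (show p ∈ PrimeSpectrum.zeroLocus {(0 : V)} from Set.singleton_subset_iff.2 p.asIdeal.zero_mem)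
  exfalso
  obtain ⟨a₀, ha₀⟩ : ∃ a, a ∈ J := by
    obtain ⟨b, c, hb, hc, hbc⟩ := key (IsLocalRing.closedPoint V) hm
    refine ⟨b, hb, fun p hp => hbc p (Set.singleton_subset_iff.1 hp) fun hcp => hc ?_⟩
    exact IsLocalRing.le_maximalIdeal p.2.ne_top hcp
  have hdiv : ∀ a ∈ J, ∀ c : V, ¬ IsUnit c → c ∣ a → c ∈ J := fun a ha c hc hca =>
    ⟨hc, fun p hp => ha.2 (Set.singleton_subset_iff.2 (p.asIdeal.mem_of_dvd hca (Set.singleton_subset_iff.1 hp)))⟩
  have hsq : ∀ a ∈ J, ∀ c ∈ J, a * c ∈ J := fun a ha c hc =>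
    ⟨fun hu => ha.1 (isUnit_of_mul_isUnit_left hu), fun p hp =>
      (p.2.mem_or_mem (Set.singleton_subset_iff.1 hp)).elim (fun h => ha.2 (Set.singleton_subset_iff.2 h))
        fun h => hc.2 (Set.singleton_subset_iff.2 h)⟩
  let q0 : Ideal V := ⨅ a ∈ J, Ideal.span {a}
  have hq0 : ∀ x, x ∈ q0 ↔ ∀ a ∈ J, a ∣ x := fun x => by
    simp only [q0, Submodule.mem_iInf, Ideal.mem_span_singleton]
  have hnot : ∀ x, x ∉ q0 → ¬ IsUnit x → x ∈ J := fun x hx hu => by
    rw [hq0] at hx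
    push Not at hx
    obtain ⟨a, ha, hax⟩ := hx
    exact hdiv a ha x hu ((ValuationRing.dvd_total x a).resolve_right hax)
  have hprime : q0.IsPrime := by
    refine ⟨fun htop => ha₀.1 (isUnit_of_dvd_one ((hq0 1).1 (htop ▸ trivial) a₀ ha₀)), fun {x y} hxy => ?_⟩
    by_contra hne
    push Not at hne
    by_cases hux : IsUnit x
    · exact hne.2 ((Ideal.unit_mul_mem_iff_mem q0 hux).1 hxy)
    by_cases huy : IsUnit y
    · exact hne.1 ((Ideal.mul_unit_mem_iff_mem q0 huy).1 hxy)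
    have h := hsq x (hnot x hne.1 hux) y (hnot y hne.2 huy)
    have h2 := (hq0 (x * y)).1 hxy _ (hsq _ h _ h)
    by_cases hz : x * y = 0
    · rcases mul_eq_zero.1 hz with hx | hy
      · exact hne.1 (hx ▸ q0.zero_mem)
      · exact hne.2 (hy ▸ q0.zero_mem)
    · obtain ⟨r, hr⟩ := h2
      exact h.1 (IsUnit.of_mul_eq_one r (mul_left_cancel₀ hz (by rw [_root_.mul_one, ← _root_.mul_assoc]; exact hr.symm)))
  have hq0E : (⟨q0, hprime⟩ : PrimeSpectrum V) ∈ E :=
    hlim ⟨q0, hprime⟩ fun x => (hq0 x).trans ⟨fun h a ha hz => h a ⟨ha, hz⟩, fun h a ha => h a ha.1 ha.2⟩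
  obtain ⟨b, c, hb, hc, hbc⟩ := key _ hq0E
  have hbJ : b ∈ J := by
    refine ⟨fun hu => hprime.ne_top (Ideal.eq_top_of_isUnit_mem _ hb hu), fun p hp => ?_⟩
    by_cases hcp : c ∈ p.asIdeal
    · exact (hnot c hc fun hu => p.2.ne_top (Ideal.eq_top_of_isUnit_mem _ hcp hu)).2 (Set.singleton_subset_iff.2 hcp)
    · exact hbc p (Set.singleton_subset_iff.1 hp) hcp
  obtain ⟨r, hr⟩ := (hq0 b).1 hb _ (hsq _ hbJ _ hbJ)
  by_cases hb0 : b = 0
  · exact h0 (hb0 ▸ hbJ.2)
  · exact hbJ.1 (IsUnit.of_mul_eq_one r (mul_left_cancel₀ hb0 (by rw [_root_.mul_one, ← _root_.mul_assoc]; exact hr.symm)))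

theorem injective_of_mono {X Y : Scheme.{u}} (f : X ⟶ Y) [Mono f] : Function.Injective f.base := fun a b h => by
  obtain ⟨p, hp₁, hp₂⟩ := Scheme.Pullback.exists_preimage_pullback (f := f) (g := f) a b h
  rw [← hp₁, ← hp₂, (cancel_mono f).1 (pullback.condition (f := f) (g := f))]

variable {S : Scheme.{u}} {G : Over S} [GrpObj G] [LocallyOfFinitePresentation G.hom]
  {G0 : Over S} (i : G0 ⟶ G) [Mono i]
  (hrep : ∀ (T : Over S) (g : T ⟶ G), (∃ z : T ⟶ G0, z ≫ i = g) ↔ Set.range g.left.base ⊆ SGA3x.neutralSet G)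

include hrep in
theorem exists_lift_scheme {T : Scheme.{u}} (t : T ⟶ G.left) (ht : Set.range t.base ⊆ SGA3x.neutralSet G) :
    ∃ z : T ⟶ G0.left, z ≫ i.left = t := by
  obtain ⟨z, hz⟩ := (hrep (Over.mk (t ≫ G.hom)) (Over.homMk t rfl)).2 ht
  exact ⟨z.left, congrArg CommaMorphism.left hz⟩

include hrep in
theorem stableUnderGeneralization_neutralSet : StableUnderGeneralization (SGA3x.neutralSet G) := by
  intro x x' hsp hx
  haveI : Mono i.left := inferInstanceAs (Mono ((Over.forget S).map i))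
  obtain ⟨V, _, _, _, g, hg, hg'⟩ := Groth.FibreDim.exists_valuation_lift hsp
  suffices h : g.base ⁻¹' SGA3x.neutralSet G = Set.univ by
    rw [← hg']
    exact h.ge trivial
  refine eq_univ_of_valuation (show g.base (IsLocalRing.closedPoint V) ∈ SGA3x.neutralSet G from hg.symm ▸ hx)
    ((pc_compl_of_isIndConstructible (isIndConstructible_neutralSet (G := G))).preimage g) fun q hq => ?_
  let J := {a : V // ¬ IsUnit a ∧ PrimeSpectrum.zeroLocus {a} ⊆ (g.base ⁻¹' SGA3x.neutralSet G : Set (PrimeSpectrum V))}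
  obtain ⟨U, hU, hxU, -⟩ := exists_isAffineOpen_mem_and_subset (U := ⊤) (Set.mem_univ x)
  have hgU : Set.range g.base ⊆ Set.range hU.fromSpec.base := by
    rintro _ ⟨p, rfl⟩
    rw [hU.range_fromSpec]
    exact ((IsLocalRing.specializes_closedPoint p).map g.continuous).mem_open U.2 (hg.symm ▸ hxU)
  let φ : Γ(G.left, U) ⟶ CommRingCat.of V := Spec.preimage (IsOpenImmersion.lift hU.fromSpec g hgU)
  have hφ : Spec.map φ ≫ hU.fromSpec = g := by rw [Spec.map_preimage, IsOpenImmersion.lift_fac]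
  -- the rational point over `x`
  obtain ⟨z₁, hz₁⟩ := exists_lift_scheme i hrep (G.left.fromSpecResidueField x) (by
    rintro _ ⟨p, rfl⟩
    rw [Scheme.fromSpecResidueField_apply]
    exact hx)
  let z0 : G0.left := z₁.base (IsLocalRing.closedPoint _)
  have hz0 : i.left.base z0 = x := by
    rw [← Scheme.Hom.comp_apply, hz₁, Scheme.fromSpecResidueField_apply]
  obtain ⟨A, hA, hz0A, hAU⟩ := exists_isAffineOpen_mem_and_subset (U := i.left ⁻¹ᵁ U) (x := z0)
    (show i.left.base z0 ∈ U from hz0.symm ▸ hxU)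
  let ψ := i.left.appLE U A fun p hp => hAU hp
  have hψ : Spec.map ψ ≫ hU.fromSpec = hA.fromSpec ≫ i.left := hU.SpecMap_appLE_fromSpec i.left hA _
  have hχ : ∀ a : J, ∃ χ : Γ(G0.left, A) ⟶ CommRingCat.of (V ⧸ Ideal.span {a.1}),
      ψ ≫ χ = φ ≫ CommRingCat.ofHom (Ideal.Quotient.mk (Ideal.span {a.1})) := fun a => by
    haveI : Nontrivial (V ⧸ Ideal.span {a.1}) :=
      Ideal.Quotient.nontrivial_iff.2 (mt Ideal.span_singleton_eq_top.1 a.2.1)
    let π : CommRingCat.of V ⟶ CommRingCat.of (V ⧸ Ideal.span {a.1}) :=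
      CommRingCat.ofHom (Ideal.Quotient.mk (Ideal.span {a.1}))
    obtain ⟨z, hz⟩ := exists_lift_scheme i hrep (Spec.map π ≫ g) (by
      rintro _ ⟨p, rfl⟩
      refine a.2.2 (Set.singleton_subset_iff.2 ?_)
      show Ideal.Quotient.mk (Ideal.span {a.1}) a.1 ∈ p.asIdeal
      rw [Ideal.Quotient.eq_zero_iff_mem.2 (Ideal.mem_span_singleton_self a.1)]
      exact zero_mem _)
    haveI : IsLocalRing (V ⧸ Ideal.span {a.1}) := IsLocalRing.of_surjective' _ Ideal.Quotient.mk_surjective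
    have hcl : z.base (IsLocalRing.closedPoint (V ⧸ Ideal.span {a.1})) = z0 := injective_of_mono i.left (by
      rw [hz0, ← Scheme.Hom.comp_apply, hz, Scheme.Hom.comp_apply, ← hg]
      congr 1
      exact @IsLocalRing.comap_closedPoint V _ _ _ _ _ π.hom
        (IsLocalHom.of_surjective _ Ideal.Quotient.mk_surjective))
    have hzA : Set.range z.base ⊆ Set.range hA.fromSpec.base := by
      rintro _ ⟨p, rfl⟩
      rw [hA.range_fromSpec]
      exact ((IsLocalRing.specializes_closedPoint p).map z.continuous).mem_open A.2 (hcl.symm ▸ hz0A)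
    refine ⟨Spec.preimage (IsOpenImmersion.lift hA.fromSpec z hzA), Spec.map_injective ?_⟩
    rw [← cancel_mono hU.fromSpec, Spec.map_comp, Spec.map_comp, Spec.map_preimage, Category.assoc, hψ,
      IsOpenImmersion.lift_fac_assoc, hz, Category.assoc, hφ]
  choose χ hχ using hχ
  let R := Π a : J, V ⧸ Ideal.span {a.1}
  let ρ₀ : V →+* R := Pi.ringHom fun a : J => Ideal.Quotient.mk (Ideal.span {a.1})
  let X₀ : Γ(G0.left, A) ⟶ CommRingCat.of R := CommRingCat.ofHom (Pi.ringHom fun a : J => (χ a).hom)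
  have hcomm : ψ ≫ X₀ = φ ≫ CommRingCat.ofHom ρ₀ := by
    refine CommRingCat.hom_ext (RingHom.ext fun r => funext fun a => ?_)
    exact congr($(hχ a).hom r)
  have hker : RingHom.ker ρ₀ = q.asIdeal := by
    ext r
    rw [RingHom.mem_ker, hq]
    constructor
    · intro h a ha hz
      exact Ideal.mem_span_singleton.1 (Ideal.Quotient.eq_zero_iff_mem.1 (congrFun h ⟨a, ha, hz⟩))
    · intro h
      funext a
      exact Ideal.Quotient.eq_zero_iff_mem.2 (Ideal.mem_span_singleton.2 (h a.1 a.2.1 a.2.2))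
  obtain ⟨P, hP⟩ := exists_prime_comap_eq_ker ρ₀ (hker ▸ q.2)
  rw [hker] at hP
  have hfac : Spec.map (CommRingCat.ofHom ρ₀) ≫ g = (Spec.map X₀ ≫ hA.fromSpec) ≫ i.left := by
    refine (congrArg (Spec.map (CommRingCat.ofHom ρ₀) ≫ ·) hφ.symm).trans ?_
    rw [← Category.assoc, ← Spec.map_comp, ← hcomm, Spec.map_comp, Category.assoc, hψ, Category.assoc]
  have hqP : (Spec.map (CommRingCat.ofHom ρ₀)).base P = q := PrimeSpectrum.ext hP
  show g.base q ∈ SGA3x.neutralSet G
  rw [← hqP, ← Scheme.Hom.comp_apply, hfac, Scheme.Hom.comp_apply]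
  exact (hrep G0 i).1 ⟨𝟙 _, Category.id_comp _⟩ ⟨_, rfl⟩

include hrep in
theorem isOpen_neutralSet : IsOpen (SGA3x.neutralSet G) :=
  isOpen_iff_mem_nhds.2 fun _ hx => mem_interior_iff_mem_nhds.1
    (mem_interior_of_generizations (isIndConstructible_neutralSet (G := G))
      fun _ h => stableUnderGeneralization_neutralSet i hrep h hx)

include hrep in
theorem isOpenImmersion_of_represents :
    IsOpenImmersion i.left ∧ Set.range i.left.base = SGA3x.neutralSet G := by
  haveI : Mono i.left := inferInstanceAs (Mono ((Over.forget S).map i))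
  let O : G.left.Opens := ⟨SGA3x.neutralSet G, isOpen_neutralSet i hrep⟩
  have hr : Set.range i.left.base ⊆ Set.range O.ι.base := by
    rw [O.range_ι]
    exact (hrep G0 i).1 ⟨𝟙 _, Category.id_comp _⟩
  let l := IsOpenImmersion.lift O.ι i.left hr
  obtain ⟨z, hz⟩ := exists_lift_scheme i hrep O.ι (by rw [O.range_ι]; exact subset_rfl)
  have hl : l ≫ O.ι = i.left := IsOpenImmersion.lift_fac _ _ _
  have h1 : z ≫ l = 𝟙 _ := by rw [← cancel_mono O.ι, Category.assoc, hl, hz, Category.id_comp]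
  have h2 : l ≫ z = 𝟙 _ := by rw [← cancel_mono i.left, Category.assoc, hz, hl, Category.id_comp]
  haveI : IsIso l := ⟨z, h2, h1⟩
  refine ⟨hl ▸ inferInstanceAs (IsOpenImmersion (l ≫ O.ι)), ?_⟩
  rw [← hl, Scheme.Hom.comp_base, TopCat.coe_comp, Set.range_comp, l.surjective.range_eq, Set.image_univ, O.range_ι]
  rfl

omit hrep in
theorem exists_unit_chart_le {K : S.Opens} {s : S} (hs : s ∈ K) : ∃ (S₀ : S.Opens) (W : G.left.Opens),
    s ∈ S₀ ∧ S₀ ≤ K ∧ IsAffineOpen S₀ ∧ IsAffineOpen W ∧ W ≤ G.hom ⁻¹ᵁ S₀ ∧ S₀ ≤ η[G].left ⁻¹ᵁ W := by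
  obtain ⟨T, W, hsT, hT, hW, e, eη⟩ := exists_unit_chart (G := G) s
  obtain ⟨r, hrK, hsr⟩ := hT.exists_basicOpen_le (V := K) ⟨s, hs⟩ hsT
  refine ⟨S.basicOpen r, G.left.basicOpen (G.hom.appLE T W e r), hsr, hrK, hT.basicOpen r, hW.basicOpen _, ?_, ?_⟩
  · rw [Scheme.basicOpen_appLE]
    exact inf_le_right
  · intro t ht
    show unit G t ∈ G.left.basicOpen _
    rw [Scheme.basicOpen_appLE]
    exact ⟨eη (S.basicOpen_le r ht), show G.hom.base (unit G t) ∈ S.basicOpen r from (hom_unit G t).symm ▸ ht⟩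

omit hrep in
theorem isCompact_neutralSet_inter {K : S.Opens} (hK : IsAffineOpen K) :
    IsCompact (SGA3x.neutralSet G ∩ G.hom.base ⁻¹' K) := by
  choose S₀ W hs hSK hS₀ hW e eη using fun s : K => exists_unit_chart_le (G := G) s.2
  obtain ⟨t, ht⟩ := hK.isCompact.elim_finite_subcover (fun s : K => (S₀ s : Set S)) (fun s => (S₀ s).2)
    fun s hsK => Set.mem_iUnion.2 ⟨⟨s, hsK⟩, hs ⟨s, hsK⟩⟩
  have : SGA3x.neutralSet G ∩ G.hom.base ⁻¹' K =
      ⋃ s ∈ t, (chartMul (G := G) (W s)).left.base '' chartPairs (W s) := by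
    ext x
    simp only [Set.mem_iUnion]
    constructor
    · rintro ⟨hx, hxK⟩
      obtain ⟨s, hst, hxs⟩ := Set.mem_iUnion₂.1 (ht hxK)
      exact ⟨s, hst, (image_chartPairs (e s) (eη s)).ge ⟨hx, hxs⟩⟩
    · rintro ⟨s, -, h⟩
      obtain ⟨h1, h2⟩ := (image_chartPairs (e s) (eη s)).le h
      exact ⟨h1, hSK s h2⟩
  rw [this]
  refine t.finite_toSet.isCompact_biUnion fun s _ => ?_
  haveI := isAffine_chartObj_tensor (e s) (hS₀ s) (hW s)
  exact ((pc_of_isLocallyConstructible (isLocallyConstructible_chartPairs (e s) (eη s) (hS₀ s) (hW s))).qcImage).isCompact.image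
    (chartMul (G := G) (W s)).left.continuous

include hrep in
theorem quasiCompact_of_represents : QuasiCompact G0.hom := by
  obtain ⟨ho, hr⟩ := isOpenImmersion_of_represents i hrep
  haveI := ho
  refine quasiCompact_iff_forall_isAffineOpen.2 fun K hK => ?_
  rw [i.left.isOpenEmbedding.isInducing.isCompact_iff]
  convert isCompact_neutralSet_inter (G := G) hK using 1
  ext x
  constructor
  · rintro ⟨p, hp, rfl⟩
    refine ⟨hr.le ⟨p, rfl⟩, ?_⟩
    show G.hom.base (i.left.base p) ∈ K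
    rw [← Scheme.Hom.comp_apply, Over.w]
    exact hp
  · rintro ⟨hx, hxK⟩
    obtain ⟨p, rfl⟩ := hr.ge hx
    refine ⟨p, ?_, rfl⟩
    show G0.hom.base p ∈ K
    rw [← Over.w i, Scheme.Hom.comp_apply]
    exact hxK

end Groth.Sga3.NeutralGen
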