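import Groth.Agent.Sga3.NeutralGen.Cons
import Groth.Agent.NGeomPts.Lsc

/-!
Universal openness along a neutral component and local constancy of the fibre dimension.
-/

set_option autoImplicit false
set_option linter.style.haveILetI false

universe u

open CategoryTheory CategoryTheory.Limits MonoidalCategory CartesianMonoidalCategory MonObj GrpObj
  AlgebraicGeometry TopologicalSpace Topology

noncomputable section

namespace Groth.Sga3.NeutralGen

open Groth.GrpschAbsch Groth.FibreDim

variable {S : Scheme.{u}} {G : Over S} [GrpObj G] [LocallyOfFinitePresentation G.hom]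

theorem exists_dim_nhd {s : S} {z : G.left} (hz : IsNGen G s z) (h : EGA43.IsUnivOpenAt G.hom z) :
    ∃ U : Set S, U ∈ 𝓝 s ∧
      ∀ t ∈ U, topologicalKrullDim ↥(G.hom.base ⁻¹' {t}) = topologicalKrullDim ↥(G.hom.base ⁻¹' {s}) := by
  obtain ⟨n, hn, -⟩ := dim_fiber_eq_unit G s
  obtain ⟨V, hsV, -, hlev⟩ := exists_isConstructible_levels G s
  let E : Set V.toScheme := {t : V | topologicalKrullDim ↥(G.hom.base ⁻¹' {(t : S)}) = (n : WithBot ℕ∞)}
  have hE : ProCons.IsIndConstructible E := fun x =>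
    ⟨Set.univ, isOpen_univ, trivial, {Subtype.val ⁻¹' E}, fun T hT => by
      rw [Set.mem_singleton_iff.1 hT]
      exact (hlev n).isLocallyConstructible.preimage_of_isOpenEmbedding isOpen_univ.isOpenEmbedding_subtypeVal,
      (Set.sUnion_singleton _).symm⟩
  have hle := isOpen_dim_le G n
  have hint := Groth.Calg2.ProCons.mem_interior_of_generizations hE (x := (⟨s, hsV⟩ : V.toScheme)) fun t ht => by
    have hts : (t.1 : S) ⤳ G.hom.base z := by rw [hz.2.1]; exact ht.map continuous_subtype_val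
    obtain ⟨a, -, hfa, -, hda⟩ := Groth.EGA43Topo.exists_generization_of_isUnivOpenAt h (IsNGen.isMax G hz) hts
    rw [fibreDimAt_eq_dim G z, fibreDimAt_eq_dim G a, hfa, hz.2.1, hn] at hda
    exact le_antisymm ((hz.2.1 ▸ hts).mem_open hle (show topologicalKrullDim ↥(G.hom.base ⁻¹' {s}) ≤ _ from hn.le)) hda
  refine ⟨V.ι.base '' E, Filter.mem_of_superset
    (V.ι.isOpenEmbedding.isOpenMap.image_mem_nhds (mem_interior_iff_mem_nhds.1 hint)) subset_rfl, ?_⟩
  rintro _ ⟨t, ht, rfl⟩
  rw [hn]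
  exact ht

theorem isUnivOpenAt_of_dim_nhd {s : S} {U : Set S} (hU : U ∈ 𝓝 s)
    (hd : ∀ t ∈ U, topologicalKrullDim ↥(G.hom.base ⁻¹' {t}) = topologicalKrullDim ↥(G.hom.base ⁻¹' {s}))
    {x : G.left} (hx : x ∈ SGA3x.neutralSet G) (hxs : G.hom.base x = s) : EGA43.IsUnivOpenAt G.hom x := by
  obtain ⟨O', hO'U, hO', hsO⟩ := mem_nhds_iff.1 hU
  let O : S.Opens := ⟨O', hO'⟩
  let G' := Red.bc O.ι G
  haveI : LocallyOfFiniteType G'.hom := inferInstanceAs (LocallyOfFiniteType (pullback.snd G.hom O.ι))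
  haveI : LocallyOfFinitePresentation G'.hom :=
    inferInstanceAs (LocallyOfFinitePresentation (pullback.snd G.hom O.ι))
  have key : ∀ p : O.toScheme, topologicalKrullDim ↥(G'.hom.base ⁻¹' {p}) =
      topologicalKrullDim ↥(G.hom.base ⁻¹' {s}) := fun p => by
    have h1 := fibreDimAt_eq_dim G' (unit G' p)
    rw [hom_unit] at h1
    rw [← h1, ← hd (O.ι.base p) (hO'U p.2)]
    refine (fibreDimAt_baseChange G.hom O.ι (pullback.snd G.hom O.ι) (pullback.fst G.hom O.ι)
      (IsPullback.of_hasPullback G.hom O.ι) (unit G' p)).trans ?_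
    refine (fibreDimAt_eq_dim G _).trans ?_
    have h2 : G.hom.base ((pullback.fst G.hom O.ι).base (unit G' p)) = O.ι.base p := by
      rw [← Scheme.Hom.comp_apply, pullback.condition, Scheme.Hom.comp_apply]
      exact congrArg O.ι.base (hom_unit G' p)
    rw [h2]
  obtain ⟨x', hx', hx''⟩ := Scheme.Pullback.exists_preimage_pullback (f := G.hom) (g := O.ι) x ⟨s, hsO⟩ hxs
  have hx'N : x' ∈ SGA3x.neutralSet G' := by
    rw [NeutralSet.neutralSet_bc, Set.mem_preimage, hx']
    exact hx
  have h' := isUnivOpenAt_of_mem_neutralSet (G := G') (fun a b _ => (key a).trans (key b).symm) hx'N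
  have hc := Groth.EGA43Topo.isUnivOpenAt_comp (f := pullback.snd G.hom O.ι) (g := O.ι) h'
    (Groth.NGeomPts.isUnivOpenAt_of_universallyOpen O.ι _)
  rw [← pullback.condition] at hc
  exact hx' ▸ Groth.EGA43Topo.isUnivOpenAt_right_of_comp hc

end Groth.Sga3.NeutralGen
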