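import Groth.Agent.Sga3.NeutralGen.Basic
import Groth.Agent.Agf.Quot

/-!
The translate of an open subset by the neutral set is open, and separated if the open subset is.
-/

set_option autoImplicit false
set_option linter.style.haveILetI false

universe u

open CategoryTheory CategoryTheory.Limits MonoidalCategory CartesianMonoidalCategory MonObj GrpObj
  AlgebraicGeometry TopologicalSpace Topology

noncomputable section

namespace Groth.Sga3.NeutralGen

open Groth.GrpschAbsch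

variable {S : Scheme.{u}} {G X : Over S} [GrpObj G]

theorem inv_mem_neutralSet {x : G.left} (hx : x ∈ SGA3x.neutralSet G) :
    (GrpObj.inv (X := G)).left.base x ∈ SGA3x.neutralSet G := by
  obtain ⟨p, hp⟩ := Set.mem_iUnion.1 hx
  refine Set.mem_iUnion.2 ⟨p, ?_⟩
  let F := G.hom.base ⁻¹' {(𝟙_ (Over S)).hom.base p}
  have hi : η[G] ≫ (GrpObj.inv (X := G)) = η[G] := by
    have h1 : (η[G] : 𝟙_ (Over S) ⟶ G) = 1 := by
      rw [Hom.one_def, toUnit_unique (toUnit _) (𝟙 _), Category.id_comp]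
    rw [h1, ← Hom.inv_def, inv_one]
  have h2 : (GrpObj.inv (X := G)).left.base (η[G].left.base p) = η[G].left.base p := by
    rw [← Scheme.Hom.comp_apply, ← Over.comp_left, hi]
  have h3 : η[G].left.base p ∈ F := NeutralSet.hom_one_apply G p
  have hsub : (GrpObj.inv (X := G)).left.base '' connectedComponentIn F (η[G].left.base p) ⊆ F := by
    rintro _ ⟨a, ha, rfl⟩
    have := connectedComponentIn_subset F _ ha
    rw [Set.mem_preimage, ← Scheme.Hom.comp_apply, Over.w]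
    exact this
  have h4 := (isPreconnected_connectedComponentIn.image (GrpObj.inv (X := G)).left.base
    (GrpObj.inv (X := G)).left.continuous.continuousOn).subset_connectedComponentIn
    ⟨_, mem_connectedComponentIn h3, h2⟩ hsub
  exact h4 ⟨x, hp, rfl⟩

variable (a : AlgGrp.Action G X) (U : X.left.Opens)

/-- The points moved into `U` by the neutral set. -/
def neutralMul : Set X.left :=
  {v | ∃ q : ↥(G ⊗ X).left, (fst G X).left.base q ∈ SGA3x.neutralSet G ∧ (snd G X).left.base q = v ∧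
    a.act.left.base q ∈ U}

theorem image_eq_neutralMul : a.act.left.base '' {z : ↥(G ⊗ X).left |
      (fst G X).left.base z ∈ SGA3x.neutralSet G ∧ (snd G X).left.base z ∈ U} = neutralMul a U := by
  let σ : G ⊗ X ⟶ G ⊗ X := lift (fst G X ≫ (GrpObj.inv (X := G))) a.act
  have h₁ : σ ≫ snd G X = a.act := lift_snd _ _
  have h₂ : σ ≫ a.act = snd G X := by
    have h := Groth.Agf.lift_mul_act a (fst G X)⁻¹ (fst G X) (snd G X)
    rw [inv_mul_cancel, Groth.Agf.lift_one_act, lift_fst_snd, Category.id_comp] at h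
    show lift (fst G X ≫ (GrpObj.inv (X := G))) a.act ≫ a.act = _
    rw [← Hom.inv_def]
    exact h.symm
  have h₃ : σ ≫ fst G X = fst G X ≫ (GrpObj.inv (X := G)) := lift_fst _ _
  ext v
  constructor
  · rintro ⟨q, ⟨hq, hqU⟩, rfl⟩
    refine ⟨σ.left.base q, ?_, ?_, ?_⟩
    · rw [← Scheme.Hom.comp_apply, ← Over.comp_left, h₃, Over.comp_left, Scheme.Hom.comp_apply]
      exact inv_mem_neutralSet hq
    · rw [← Scheme.Hom.comp_apply, ← Over.comp_left, h₁]
    · rw [← Scheme.Hom.comp_apply, ← Over.comp_left, h₂]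
      exact hqU
  · rintro ⟨q, hq, rfl, hqU⟩
    refine ⟨σ.left.base q, ⟨?_, ?_⟩, ?_⟩
    · rw [← Scheme.Hom.comp_apply, ← Over.comp_left, h₃, Over.comp_left, Scheme.Hom.comp_apply]
      exact inv_mem_neutralSet hq
    · rw [← Scheme.Hom.comp_apply, ← Over.comp_left, h₁]
      exact hqU
    · rw [← Scheme.Hom.comp_apply, ← Over.comp_left, h₂]

theorem IsNGen.act_mem {v : X.left} {z : ↥(G ⊗ X).left} (hz : IsNGen (Red.bc X.hom G) v z)
    (hv : v ∈ neutralMul a U) : a.act.left.base z ∈ U := by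
  obtain ⟨q, hq, hqv, hqU⟩ := hv
  have hqN : q ∈ SGA3x.neutralSet (Red.bc X.hom G) := by
    rw [NeutralSet.neutralSet_bc]; exact hq
  exact ((hz.2.2 q hqN hqv).map a.act.left.continuous).mem_open U.2 hqU

variable [LocallyOfFinitePresentation G.hom] {a U}

theorem isOpen_neutralMul (hd : ConstDim G) : IsOpen (neutralMul a U) := by
  let G' := Red.bc X.hom G
  haveI : LocallyOfFiniteType G'.hom := inferInstanceAs (LocallyOfFiniteType (pullback.snd G.hom X.hom))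
  haveI : LocallyOfFinitePresentation G'.hom :=
    inferInstanceAs (LocallyOfFinitePresentation (pullback.snd G.hom X.hom))
  have hd' : ConstDim G' := constDim_bc hd X.hom
  refine isOpen_iff_mem_nhds.2 fun y hy => ?_
  obtain ⟨z, hz⟩ := exists_isNGen G' y
  have hzΩ : z ∈ a.act.left ⁻¹ᵁ U := hz.act_mem a U hy
  let u : X.left ⟶ G'.left := η[G'].left
  obtain ⟨X₀, hX₀, hyX₀, -⟩ := exists_isAffineOpen_mem_and_subset (U := ⊤) (Set.mem_univ y)
  obtain ⟨A, hA, huA, hAX⟩ := exists_isAffineOpen_mem_and_subset (U := G'.hom ⁻¹ᵁ X₀) (x := unit G' y)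
    (show G'.hom.base (unit G' y) ∈ X₀ from (hom_unit G' y).symm ▸ hyX₀)
  have hzA : z ∈ A := hz.specializes_unit.mem_open A.2 huA
  obtain ⟨r, hrΩ, hzr⟩ := hA.exists_basicOpen_le (V := a.act.left ⁻¹ᵁ U) ⟨z, hzΩ⟩ hzA
  obtain ⟨X₁, hX₁, hyX₁, hX₁A⟩ := exists_isAffineOpen_mem_and_subset (U := X₀ ⊓ u ⁻¹ᵁ A) (x := y)
    ⟨hyX₀, huA⟩
  have eA : A ≤ G'.hom ⁻¹ᵁ X₀ := fun q hq => hAX hq
  have e₁ : X₁ ≤ u ⁻¹ᵁ A := fun q hq => (hX₁A hq).2
  let φ := G'.hom.appLE X₀ A eA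
  let ψ := u.appLE A X₁ e₁
  have hφ : ∀ c, G'.hom.base (hA.fromSpec.base c) = hX₀.fromSpec.base ((Spec.map φ).base c) := fun c => by
    rw [← Scheme.Hom.comp_apply, ← hX₀.SpecMap_appLE_fromSpec G'.hom hA eA]
    rfl
  have hψ : ∀ b, hA.fromSpec.base ((Spec.map ψ).base b) = u.base (hX₁.fromSpec.base b) := fun b => by
    rw [← Scheme.Hom.comp_apply, hA.SpecMap_appLE_fromSpec u hX₁ e₁]
    rfl
  have hD : IsConstructible ((PrimeSpectrum.basicOpen r : Opens (PrimeSpectrum Γ(G'.left, A))) : Set (PrimeSpectrum Γ(G'.left, A))) :=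
    PrimeSpectrum.isConstructible_basicOpen
  have hC := (Spec.map ψ).isConstructible_preimage
    (Groth.SpectralTopology.isConstructible_fibreCl_Spec φ (G'.hom.finitePresentation_appLE hX₀ hA eA) hD)
  have hbo : ∀ c, hA.fromSpec.base c ∈ G'.left.basicOpen r ↔ c ∈ PrimeSpectrum.basicOpen r := fun c => by
    show c ∈ hA.fromSpec ⁻¹ᵁ G'.left.basicOpen r ↔ _
    rw [hA.fromSpec_preimage_basicOpen]
    rfl
  obtain ⟨b₀, hb₀⟩ := hX₁.range_fromSpec.ge hyX₁
  have hnh := Groth.Sga3.QuasiSection.mem_nhds_of_isConstructible_of_generizations hC (a := b₀) fun b hb => by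
    let v := hX₁.fromSpec.base b
    have hvy : v ⤳ y := hb₀ ▸ hb.map hX₁.fromSpec.continuous
    obtain ⟨zv, hzv⟩ := exists_isNGen G' v
    have hzvr : zv ∈ G'.left.basicOpen r :=
      (hzv.specializes hd' hvy hz).mem_open (G'.left.basicOpen r).2 hzr
    obtain ⟨c, hc⟩ := hA.range_fromSpec.ge (G'.left.basicOpen_le r hzvr)
    refine ⟨c, (hbo c).1 (hc.symm ▸ hzvr), hX₀.fromSpec.isOpenEmbedding.injective ?_, ?_⟩
    · rw [← hφ, ← hφ, hc, hψ, hzv.2.1]
      exact (hom_unit G' v).symm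
    · refine hA.fromSpec.isOpenEmbedding.toIsInducing.specializes_iff.1 ?_
      rw [hc, hψ]
      exact hzv.specializes_unit
  have h3 := hX₁.fromSpec.isOpenEmbedding.isOpenMap.image_mem_nhds hnh
  rw [hb₀] at h3
  refine Filter.mem_of_superset h3 ?_
  rintro _ ⟨b, ⟨c, hc, hce, hcu⟩, rfl⟩
  have hw : hA.fromSpec.base c ⤳ unit G' (hX₁.fromSpec.base b) := by
    have := hcu.map hA.fromSpec.continuous
    rwa [hψ] at this
  have hwv : G'.hom.base (hA.fromSpec.base c) = hX₁.fromSpec.base b := by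
    rw [hφ, hce, ← hφ, hψ]
    exact hom_unit G' _
  refine ⟨hA.fromSpec.base c, ?_, hwv, hrΩ ((hbo c).2 hc)⟩
  have := mem_of_fibre_generization G' (unit_mem G' _) (hwv.trans (hom_unit G' _).symm) hw
  rwa [NeutralSet.neutralSet_bc] at this

theorem isSeparated_neutralMul (hd : ConstDim G) (hU : IsSeparated (U.ι ≫ X.hom)) (V : X.left.Opens)
    (hV : (V : Set X.left) ⊆ neutralMul a U) : IsSeparated (V.ι ≫ X.hom) := by
  let Vo : Over S := Over.mk (V.ι ≫ X.hom)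
  let Uo : Over S := Over.mk (U.ι ≫ X.hom)
  let jV : Vo ⟶ X := Over.homMk V.ι rfl
  let jU : Uo ⟶ X := Over.homMk U.ι rfl
  haveI : Mono jV.left := inferInstanceAs (Mono V.ι)
  haveI : Mono jU.left := inferInstanceAs (Mono U.ι)
  haveI : Mono jV := Over.mono_of_mono_left jV
  haveI : Mono jU := Over.mono_of_mono_left jU
  let δ : Vo ⟶ Vo ⊗ Vo := lift (𝟙 Vo) (𝟙 Vo)
  let δU : Uo ⟶ Uo ⊗ Uo := lift (𝟙 Uo) (𝟙 Uo)
  have hdiag : ∀ (Q : Over S), (lift (𝟙 Q) (𝟙 Q)).left = pullback.diagonal Q.hom := fun Q => by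
    apply pullback.hom_ext
    · rw [pullback.diagonal_fst]
      exact congrArg CommaMorphism.left (lift_fst (𝟙 Q) (𝟙 Q))
    · rw [pullback.diagonal_snd]
      exact congrArg CommaMorphism.left (lift_snd (𝟙 Q) (𝟙 Q))
  have hDU : IsClosed (Set.range δU.left.base) := by
    have : IsClosedImmersion (pullback.diagonal Uo.hom) := hU.isClosedImmersion_diagonal
    show IsClosed (Set.range (lift (𝟙 Uo) (𝟙 Uo)).left.base)
    rw [hdiag Uo]
    exact (pullback.diagonal Uo.hom).isClosedEmbedding.isClosed_range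
  suffices hcl : IsClosed (Set.range δ.left.base) by
    refine ⟨IsClosedImmersion.of_isPreimmersion _ ?_⟩
    show IsClosed (Set.range (pullback.diagonal Vo.hom).base)
    rw [← hdiag Vo]
    exact hcl
  refine isClosed_of_closure_subset fun p hp => ?_
  let P := Vo ⊗ Vo
  let G2 := Red.bc P.hom G
  haveI : LocallyOfFiniteType G2.hom := inferInstanceAs (LocallyOfFiniteType (pullback.snd G.hom P.hom))
  haveI : LocallyOfFinitePresentation G2.hom :=
    inferInstanceAs (LocallyOfFinitePresentation (pullback.snd G.hom P.hom))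
  obtain ⟨z, hz⟩ := exists_isNGen G2 p
  let φ₁ : P ⟶ X := fst Vo Vo ≫ jV
  let φ₂ : P ⟶ X := snd Vo Vo ≫ jV
  let Ψ₁ : G ⊗ P ⟶ X := (G ◁ φ₁) ≫ a.act
  let Ψ₂ : G ⊗ P ⟶ X := (G ◁ φ₂) ≫ a.act
  have hmem : ∀ φ : P ⟶ X, φ.left.base p ∈ V → ((G ◁ φ) ≫ a.act).left.base z ∈ U := fun φ hφ => by
    have h := IsNGen.map (G := G) X.hom P.hom φ.left (Over.w φ) (m := (G ◁ φ).left)
      (congrArg CommaMorphism.left (whiskerLeft_fst G φ)) (congrArg CommaMorphism.left (whiskerLeft_snd G φ)) hz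
    exact h.act_mem a U (hV hφ)
  let O : (G ⊗ P).left.Opens := Ψ₁.left ⁻¹ᵁ U ⊓ Ψ₂.left ⁻¹ᵁ U
  have hzO : z ∈ O := ⟨hmem φ₁ ((fst Vo Vo).left.base p).2, hmem φ₂ ((snd Vo Vo).left.base p).2⟩
  let Oo : Over S := Over.mk (O.ι ≫ (G ⊗ P).hom)
  let io : Oo ⟶ G ⊗ P := Over.homMk O.ι rfl
  have hlift : ∀ Ψ : G ⊗ P ⟶ X, O ≤ Ψ.left ⁻¹ᵁ U → ∃ ψ : Oo ⟶ Uo, ψ ≫ jU = io ≫ Ψ := fun Ψ hΨ => by
    have hr : Set.range (io ≫ Ψ).left.base ⊆ Set.range U.ι.base := by
      rintro _ ⟨o, rfl⟩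
      rw [U.range_ι]
      exact hΨ (o : ↥O.toScheme).2
    let l := IsOpenImmersion.lift U.ι (io ≫ Ψ).left hr
    refine ⟨Over.homMk l ?_, Over.OverMorphism.ext (IsOpenImmersion.lift_fac _ _ _)⟩
    show l ≫ U.ι ≫ X.hom = Oo.hom
    rw [IsOpenImmersion.lift_fac_assoc, Over.w (io ≫ Ψ)]
  obtain ⟨ψ₁, hψ₁⟩ := hlift Ψ₁ inf_le_left
  obtain ⟨ψ₂, hψ₂⟩ := hlift Ψ₂ inf_le_right
  let ψ : Oo ⟶ Uo ⊗ Uo := lift ψ₁ ψ₂
  let zo : ↥O.toScheme := ⟨z, hzO⟩
  have hzcl : zo ∈ closure (ψ.left.base ⁻¹' Set.range δU.left.base) := by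
    refine mem_closure_iff_nhds.2 fun N hN => ?_
    have hzN : z ∈ SGA3x.neutralSet G2 := hz.1
    have hopen := Groth.EGA43Topo.isOpenAt_of_isUnivOpenAt
      (isUnivOpenAt_of_mem_neutralSet (constDim_bc hd P.hom) hzN)
    have h1 : G2.hom.base '' (O.ι.base '' N) ∈ 𝓝 p := by
      have := hopen _ (O.ι.isOpenEmbedding.isOpenMap.image_mem_nhds (x := zo) hN)
      rwa [hz.2.1] at this
    obtain ⟨_, ⟨_, ⟨d, hd', rfl⟩, rfl⟩, v, hv⟩ := mem_closure_iff_nhds.1 hp _ h1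
    obtain ⟨e, he, -⟩ := Scheme.exists_preimage_of_isPullback
      ((Groth.Agf.isPullback_whiskerLeft_snd G δ).map (Over.forget S)) (O.ι.base d) v hv.symm
    replace he : (G ◁ δ).left.base e = O.ι.base d := he
    refine ⟨d, hd', ?_⟩
    let M : (G ⊗ Vo).left.Opens := (G ◁ δ).left ⁻¹ᵁ O
    let Mo : Over S := Over.mk (M.ι ≫ (G ⊗ Vo).hom)
    let im : Mo ⟶ G ⊗ Vo := Over.homMk M.ι rfl
    have hr : Set.range (im ≫ G ◁ δ).left.base ⊆ Set.range O.ι.base := by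
      rintro _ ⟨o, rfl⟩
      rw [O.range_ι]
      exact (o : ↥M.toScheme).2
    let k : Mo ⟶ Oo := Over.homMk (IsOpenImmersion.lift O.ι (im ≫ G ◁ δ).left hr) (by
      show IsOpenImmersion.lift _ _ _ ≫ O.ι ≫ (G ⊗ P).hom = _
      rw [IsOpenImmersion.lift_fac_assoc, Over.w (im ≫ G ◁ δ)])
    have hk : k ≫ io = im ≫ G ◁ δ := Over.OverMorphism.ext (IsOpenImmersion.lift_fac _ _ _)
    have he' : e ∈ M := show (G ◁ δ).left.base e ∈ O from he.symm ▸ d.2
    have hke : k.left.base ⟨e, he'⟩ = d := O.ι.isOpenEmbedding.injective (by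
      rw [← he]
      exact congrArg (fun t : Mo ⟶ G ⊗ P => t.left.base ⟨e, he'⟩) hk)
    have hkk : k ≫ ψ₁ = k ≫ ψ₂ := by
      have key : ∀ φ : P ⟶ X, k ≫ io ≫ (G ◁ φ) ≫ a.act = im ≫ (G ◁ (δ ≫ φ)) ≫ a.act := fun φ => by
        rw [← Category.assoc k, hk, Category.assoc, MonoidalCategory.whiskerLeft_comp_assoc]
      have hδφ : δ ≫ φ₁ = δ ≫ φ₂ := by simp [δ, φ₁, φ₂]
      rw [← cancel_mono jU, Category.assoc, Category.assoc, hψ₁, hψ₂, key φ₁, key φ₂, hδφ]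
    refine ⟨(k ≫ ψ₁).left.base ⟨e, he'⟩, ?_⟩
    rw [← hke, ← Scheme.Hom.comp_apply, ← Scheme.Hom.comp_apply, ← Over.comp_left, ← Over.comp_left]
    have : (k ≫ ψ₁) ≫ δU = k ≫ ψ := by
      apply CartesianMonoidalCategory.hom_ext
      · simp [δU, ψ]
      · simp [δU, ψ, hkk]
    rw [this]
  obtain ⟨u₀, hu₀⟩ := (hDU.preimage ψ.left.continuous).closure_subset hzcl
  obtain ⟨m, hm, -⟩ := Scheme.Pullback.exists_preimage_pullback (f := ψ.left) (g := δU.left) zo u₀ hu₀.symm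
  let Mo : Over S := Over.mk (pullback.fst ψ.left δU.left ≫ Oo.hom)
  let r : Mo ⟶ Oo := Over.homMk (pullback.fst ψ.left δU.left) rfl
  let r₂ : Mo ⟶ Uo := Over.homMk (pullback.snd ψ.left δU.left) (by
    show _ ≫ Uo.hom = pullback.fst ψ.left δU.left ≫ Oo.hom
    rw [← Over.w δU, ← Over.w ψ, pullback.condition_assoc])
  have hr : r ≫ ψ = r₂ ≫ δU := Over.OverMorphism.ext pullback.condition
  have hr₁ : r ≫ ψ₁ = r ≫ ψ₂ := by
    have h1 := congrArg (· ≫ fst Uo Uo) hr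
    have h2 := congrArg (· ≫ snd Uo Uo) hr
    simp [ψ, δU] at h1 h2
    rw [h1, h2]
  let R : Mo ⟶ G ⊗ P := r ≫ io
  have hR : R ≫ Ψ₁ = R ≫ Ψ₂ := by
    simp only [R, Category.assoc]
    rw [← hψ₁, ← hψ₂, reassoc_of% hr₁]
  have hundo : ∀ φ : P ⟶ X, lift (R ≫ fst G P)⁻¹ (R ≫ (G ◁ φ) ≫ a.act) ≫ a.act = (R ≫ snd G P) ≫ φ :=
    fun φ => by
    have : R ≫ (G ◁ φ) ≫ a.act = lift (R ≫ fst G P) ((R ≫ snd G P) ≫ φ) ≫ a.act := by
      rw [← Category.assoc]
      congr 1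
      apply CartesianMonoidalCategory.hom_ext <;> simp
    rw [this, ← Groth.Agf.lift_mul_act, inv_mul_cancel, Groth.Agf.lift_one_act]
  have hq : (R ≫ snd G P) ≫ φ₁ = (R ≫ snd G P) ≫ φ₂ := by
    rw [← hundo φ₁, ← hundo φ₂]
    exact congrArg (fun t => lift (R ≫ fst G P)⁻¹ t ≫ a.act) hR
  simp only [φ₁, φ₂, ← Category.assoc, cancel_mono] at hq
  have hqδ : R ≫ snd G P = (R ≫ snd G P ≫ fst Vo Vo) ≫ δ := by
    apply CartesianMonoidalCategory.hom_ext
    · simp [δ]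
    · simp only [δ, Category.assoc] at hq ⊢
      simp [hq]
  refine ⟨(R ≫ snd G P ≫ fst Vo Vo).left.base m, ?_⟩
  rw [← Scheme.Hom.comp_apply, ← Over.comp_left, ← hqδ]
  show (snd G P).left.base (O.ι.base ((pullback.fst ψ.left δU.left).base m)) = p
  rw [hm]
  exact hz.2.1

end Groth.Sga3.NeutralGen
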