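import Groth.Agent.Sga3.NeutralGen.Representable
import Groth.Agent.Limits.OpenPullback

/-!
Openness of the neutral set descends along limits of schemes with affine transition maps.
-/

set_option autoImplicit false
set_option linter.style.haveILetI false

universe u

open CategoryTheory CategoryTheory.Limits MonoidalCategory CartesianMonoidalCategory MonObj GrpObj
  AlgebraicGeometry TopologicalSpace Topology

noncomputable section

namespace Groth.Sga3.NeutralGen

open Groth.GrpschAbsch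

theorem exists_represents_of_isOpen {S : Scheme.{u}} {G : Over S} [GrpObj G]
    (h : IsOpen (SGA3x.neutralSet G)) :
    ∃ (G0 : Over S) (i0 : G0 ⟶ G), Mono i0 ∧ ∀ (T : Over S) (g : T ⟶ G),
      (∃ z : T ⟶ G0, z ≫ i0 = g) ↔ Set.range g.left.base ⊆ SGA3x.neutralSet G := by
  let O : G.left.Opens := ⟨SGA3x.neutralSet G, h⟩
  refine ⟨Over.mk (O.ι ≫ G.hom), Over.homMk O.ι rfl, ?_, fun T g => ⟨?_, fun hg => ?_⟩⟩
  · exact ⟨fun a b hab => Over.OverMorphism.ext ((cancel_mono O.ι).1 (congrArg CommaMorphism.left hab))⟩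
  · rintro ⟨z, rfl⟩ _ ⟨p, rfl⟩
    exact (z.left.base p).2
  · have hr : Set.range g.left.base ⊆ Set.range O.ι.base := by rw [O.range_ι]; exact hg
    refine ⟨Over.homMk (IsOpenImmersion.lift O.ι g.left hr) ?_, Over.OverMorphism.ext (IsOpenImmersion.lift_fac _ _ _)⟩
    show IsOpenImmersion.lift O.ι g.left hr ≫ O.ι ≫ G.hom = T.hom
    rw [IsOpenImmersion.lift_fac_assoc, Over.w]

theorem isOpen_preimage_snd {A B C : Scheme.{u}} (a : A ⟶ C) (b : B ⟶ C) (Z : Set B) :
    IsOpen ((pullback.snd a b).base ⁻¹' Z) ↔ IsOpen ((pullback.fst b a).base ⁻¹' Z) := by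
  constructor
  · intro h
    rw [← pullbackSymmetry_hom_comp_snd b a]
    exact h.preimage (pullbackSymmetry b a).hom.continuous
  · intro h
    rw [← pullbackSymmetry_hom_comp_fst a b]
    exact h.preimage (pullbackSymmetry a b).hom.continuous

variable {I : Type u} [SmallCategory I] [IsCofiltered I] (D : I ⥤ Scheme.{u}) (c : Cone D) (hc : IsLimit c)
  [∀ (i i' : I) (f : i ⟶ i'), IsAffineHom (D.map f)]
  {j : I} (Gj : Over (D.obj j)) [GrpObj Gj]

theorem isOpen_neutralSet_limit {i : I} (f : i ⟶ j)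
    (h : IsOpen (SGA3x.neutralSet (Red.bc (D.map f) Gj))) :
    IsOpen (SGA3x.neutralSet (Red.bc (c.π.app j) Gj)) := by
  rw [NeutralSet.neutralSet_bc] at h ⊢
  let P : pullback Gj.hom (c.π.app j) ⟶ pullback Gj.hom (D.map f) :=
    pullback.lift (pullback.fst _ _) (pullback.snd _ _ ≫ c.π.app i)
      (by rw [Category.assoc, c.w, pullback.condition])
  have hP : P ≫ pullback.fst _ _ = pullback.fst _ _ := pullback.lift_fst _ _ _
  have := h.preimage P.continuous
  rw [← Set.preimage_comp, ← TopCat.coe_comp, ← Scheme.Hom.comp_base, hP] at this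
  exact this

include hc in
theorem exists_isOpen_neutralSet [∀ i, CompactSpace (D.obj i)] [∀ i, QuasiSeparatedSpace (D.obj i)]
    [LocallyOfFinitePresentation Gj.hom] [QuasiCompact Gj.hom] [QuasiSeparated Gj.hom]
    (h : IsOpen (SGA3x.neutralSet (Red.bc (c.π.app j) Gj))) :
    ∃ (i : I) (f : i ⟶ j), IsOpen (SGA3x.neutralSet (Red.bc (D.map f) Gj)) := by
  rw [NeutralSet.neutralSet_bc] at h
  let j₀ : Over j := Over.mk (𝟙 j)
  let D' := Groth.Limits.pullbackDiagram D j Gj.hom
  let c' := Groth.Limits.pullbackCone D j Gj.hom c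
  let s₀ : D'.obj j₀ ⟶ Gj.left := pullback.snd (D.map (𝟙 j)) Gj.hom
  haveI : IsIso s₀ := by
    haveI : IsIso (D.map (𝟙 j)) := by rw [D.map_id]; infer_instance
    exact inferInstanceAs (IsIso (pullback.snd (D.map (𝟙 j)) Gj.hom))
  haveI : CompactSpace Gj.left := QuasiCompact.compactSpace_of_compactSpace Gj.hom
  haveI : CompactSpace (D'.obj j₀) := QuasiCompact.compactSpace_of_compactSpace s₀
  have hZ : IsConstructible (s₀.base ⁻¹' SGA3x.neutralSet Gj) :=
    (isConstructible_neutralSet (G := Gj)).preimage_of_isOpenEmbedding s₀.isOpenEmbedding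
  have hπ : c'.π.app j₀ ≫ s₀ = pullback.snd (c.π.app j) Gj.hom := pullback.lift_snd _ _ _
  obtain ⟨k, φ, hk⟩ := Groth.Limits.exists_isOpen_preimage D' c' (Groth.Limits.isLimitPullbackCone D j Gj.hom hc) hZ (by
    have h' := (isOpen_preimage_snd (c.π.app j) Gj.hom (SGA3x.neutralSet Gj)).2 h
    rw [← hπ] at h'
    exact h')
  refine ⟨k.left, k.hom, ?_⟩
  have hφ : D'.map φ ≫ s₀ = pullback.snd (D.map k.hom) Gj.hom := pullback.lift_snd _ _ _
  rw [NeutralSet.neutralSet_bc]
  refine (isOpen_preimage_snd (D.map k.hom) Gj.hom (SGA3x.neutralSet Gj)).1 ?_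
  rw [← hφ]
  exact hk

end Groth.Sga3.NeutralGen
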